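import Groth.Agent.EtAICLib.Good
import Groth.Agent.CdDim.Main
import Groth.Agent.S0659

/-!
# Closed subschemes of a scheme covered by two affine opens
-/

set_option autoImplicit false
set_option linter.style.haveILetI false
set_option backward.isDefEq.respectTransparency false
set_option backward.isDefEq.respectTransparency.types false
set_option maxHeartbeats 1000000

universe u

open CategoryTheory CategoryTheory.Limits AlgebraicGeometry Opposite TopologicalSpace

namespace Groth.Agent.EtAICLib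

variable {Y : Scheme.{u}} [IsIntegral Y] (hY : AICS Y) {Y₀ : Scheme.{u}} (j : Y₀ ⟶ Y) [IsClosedImmersion j]
  (M : Type) [AddCommGroup M] [Finite M]

include hY in
theorem subsingleton_H_affine_piece (U : Y.Opens) (hU : IsAffineOpen U) (q : ℕ) (hq : 1 ≤ q) :
    Subsingleton (EtCoh.H (j ⁻¹ᵁ U) ((EtCoh.pull (j ⁻¹ᵁ U).ι).obj (EtCoh.const Y₀ M)) q) := by
  haveI := EtFound.pull_preservesFiniteLimits (j ⁻¹ᵁ U).ι
  suffices Subsingleton (EtCoh.H (j ⁻¹ᵁ U) (EtCoh.const (j ⁻¹ᵁ U : Scheme.{u}) M) q) from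
    @Equiv.subsingleton _ _
      ((Abelian.extFunctorObj _ q).mapIso (EtCore.pullConst (j ⁻¹ᵁ U).ι M)).addCommGroupIsoToAddEquiv.toEquiv this
  rcases Set.eq_empty_or_nonempty (U : Set Y) with hU₀ | hU₀
  · haveI : IsEmpty (j ⁻¹ᵁ U).toScheme := ⟨fun z => (Set.eq_empty_iff_forall_notMem.1 hU₀ _ z.2).elim⟩
    exact CdDim.subsingleton_H_of_isEmpty _ q
  haveI : IsAffine U.toScheme := hU
  haveI : Nonempty U.toScheme := ⟨⟨hU₀.some, hU₀.some_mem⟩⟩
  haveI : IsIntegral U.toScheme := isIntegral_of_isOpenImmersion U.ι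
  have hU' : AICS U.toScheme := hY.of_isOpenImmersion U.ι
  haveI := hU'.isSepClosed_functionField
  haveI : IsClosedImmersion (j ∣_ U) := MorphismProperty.of_isPullback (isPullback_morphismRestrict j U).flip inferInstance
  exact EtTorLib.subsingleton_H_const_closed M hU'.isIntegrallyClosed (j ∣_ U) q hq

include hY j in
theorem subsingleton_H_two_affines (U V : Y.Opens) (hU : IsAffineOpen U) (hV : IsAffineOpen V) (hUV : U ⊔ V = ⊤)
    (hI : IsAffineOpen (U ⊓ V)) (q : ℕ) (hq : 2 ≤ q) : Subsingleton (EtCoh.H Y₀ (EtCoh.const Y₀ M) q) := by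
  obtain ⟨n, rfl⟩ : ∃ n, q = n + 2 := ⟨q - 2, by omega⟩
  let A := j ⁻¹ᵁ U
  let B := j ⁻¹ᵁ V
  haveI := EtFound.pull_preservesFiniteLimits A.ι
  haveI := EtFound.pull_preservesFiniteLimits B.ι
  haveI := EtFound.pull_preservesFiniteLimits (Y₀.homOfLE (inf_le_left : A ⊓ B ≤ A))
  haveI := EtFound.pull_preservesFiniteLimits (Y₀.homOfLE (inf_le_right : A ⊓ B ≤ B))
  have hAB : A ⊔ B = ⊤ := by
    show j ⁻¹ᵁ U ⊔ j ⁻¹ᵁ V = ⊤
    rw [← Scheme.Hom.preimage_sup, hUV, Scheme.Hom.preimage_top]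
  obtain ⟨δ, -, h1, -, -⟩ := S0659.result Y₀ A B hAB (EtCoh.const Y₀ M)
  refine subsingleton_of_forall_eq 0 fun ξ => ?_
  haveI := subsingleton_H_affine_piece hY j M U hU (n + 2) (by omega)
  haveI := subsingleton_H_affine_piece hY j M V hV (n + 2) (by omega)
  haveI : Subsingleton (EtCoh.H ↑(A ⊓ B) ((EtCoh.pull (A ⊓ B).ι).obj (EtCoh.const Y₀ M)) (n + 1)) :=
    subsingleton_H_affine_piece hY j M (U ⊓ V) hI (n + 1) (by omega)
  have hmem : ξ ∈ (δ (n + 1)).range := by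
    rw [← h1 (n + 1), AddMonoidHom.mem_ker]
    exact Prod.ext (Subsingleton.elim _ _) (Subsingleton.elim _ _)
  obtain ⟨y, rfl⟩ := hmem
  rw [Subsingleton.elim y 0, map_zero]

end Groth.Agent.EtAICLib
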