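import Groth.Agent.ModPairLocal.AIC
import Groth.Agent.AICCover.Ring
import Mathlib.AlgebraicGeometry.FunctionField
import Mathlib.AlgebraicGeometry.Morphisms.ClosedImmersion
import Mathlib.FieldTheory.IsSepClosed

/-!
# Schemes whose local rings are absolutely integrally closed
-/

set_option autoImplicit false
set_option linter.style.haveILetI false
set_option backward.isDefEq.respectTransparency false
set_option backward.isDefEq.respectTransparency.types false

universe u

open CategoryTheory CategoryTheory.Limits AlgebraicGeometry Opposite TopologicalSpace Polynomial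

namespace Groth.Agent.EtAICLib

/-- all local rings are absolutely integrally closed -/
def AICS (Y : Scheme.{u}) : Prop := ∀ y : Y, Curves.IsAIC (Y.presheaf.stalk y)

theorem isAIC_of_surjective {A B : Type u} [CommRing A] [CommRing B] (f : A →+* B)
    (hf : Function.Surjective f) (h : Curves.IsAIC A) : Curves.IsAIC B := by
  intro g hg hd
  obtain ⟨G, hG, hGd, hGm⟩ := lifts_and_natDegree_eq_and_monic
    ((mem_lifts g).2 (map_surjective f hf g)) hg
  obtain ⟨r, hr⟩ := h G hGm (by omega)
  exact ⟨f r, by rw [← hG, eval_map, eval₂_at_apply, hr, map_zero]⟩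

theorem isAIC_of_subsingleton {R : Type u} [CommRing R] [Subsingleton R] : Curves.IsAIC R :=
  fun _ _ _ => ⟨0, Subsingleton.elim _ _⟩

theorem isAIC_localization {A B : Type u} [CommRing A] [CommRing B] [Algebra A B] (S : Submonoid A)
    [IsLocalization S B] (h : Curves.IsAIC A) : Curves.IsAIC B := by
  rcases subsingleton_or_nontrivial B with hB | hB
  · exact isAIC_of_subsingleton
  · exact ModPairLocal.isAIC_localization S h

theorem isAIC_integralClosure {R S : Type u} [CommRing R] [CommRing S] [Algebra R S] (h : Curves.IsAIC S) :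
    Curves.IsAIC (integralClosure R S) := by
  intro f hf hd
  rcases subsingleton_or_nontrivial S with hS | hS
  · exact ⟨0, Subtype.ext (Subsingleton.elim _ _)⟩
  haveI : Nontrivial (integralClosure R S) := inferInstance
  let e := (integralClosure R S).val.toRingHom
  obtain ⟨z, hz⟩ := h (f.map e) (hf.map e) (by rwa [hf.natDegree_map e])
  rw [eval_map] at hz
  refine ⟨⟨z, isIntegral_trans z ⟨f, hf, hz⟩⟩, Subtype.ext ?_⟩
  show e (eval _ f) = 0
  rw [← eval₂_at_apply]
  exact hz

theorem isAIC_of_isAlgClosed {K : Type u} [Field K] [IsAlgClosed K] : Curves.IsAIC K := fun f hf hd =>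
  IsAlgClosed.exists_root f (by rw [degree_eq_natDegree hf.ne_zero]; exact_mod_cast hd.ne')

theorem isAIC_pi {ι : Type u} {K : ι → Type u} [∀ i, CommRing (K i)] (h : ∀ i, Curves.IsAIC (K i)) :
    Curves.IsAIC (∀ i, K i) := by
  intro f hf hd
  have hroot : ∀ i, ∃ z, (f.map (Pi.evalRingHom K i)).eval z = 0 := fun i => by
    rcases subsingleton_or_nontrivial (K i) with hi | hi
    · exact ⟨0, Subsingleton.elim _ _⟩
    · exact h i _ (hf.map _) (by rwa [hf.natDegree_map])
  choose z hz using hroot
  refine ⟨z, funext fun i => ?_⟩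
  show Pi.evalRingHom K i (f.eval z) = 0
  rw [← eval₂_at_apply, ← eval_map]
  exact hz i

theorem isIntegrallyClosed_of_isAIC {R : Type u} [CommRing R] [IsDomain R] (h : Curves.IsAIC R) :
    IsIntegrallyClosed R :=
  (isIntegrallyClosed_iff (FractionRing R)).2 fun {_} hx => AICCover.mem_range_of_isIntegral h hx

variable {Y : Scheme.{u}}

theorem AICS.isIntegrallyClosed (h : AICS Y) [IsIntegral Y] (y : Y) :
    IsIntegrallyClosed (Y.presheaf.stalk y) :=
  isIntegrallyClosed_of_isAIC (h y)

theorem AICS.isAlgClosed_functionField (h : AICS Y) [IsIntegral Y] : IsAlgClosed Y.functionField :=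
  IsAlgClosed.of_exists_root _ fun p hp hirr => h (genericPoint Y) p hp hirr.natDegree_pos

theorem AICS.isSepClosed_functionField (h : AICS Y) [IsIntegral Y] : IsSepClosed Y.functionField :=
  haveI := h.isAlgClosed_functionField
  inferInstance

theorem AICS.of_stalkMap_surjective {Z : Scheme.{u}} (h : AICS Y) (i : Z ⟶ Y)
    (hi : ∀ z, Function.Surjective (i.stalkMap z)) : AICS Z := fun z =>
  isAIC_of_surjective (i.stalkMap z).hom (hi z) (h _)

theorem AICS.of_isPreimmersion {Z : Scheme.{u}} (h : AICS Y) (i : Z ⟶ Y) [IsPreimmersion i] : AICS Z :=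
  h.of_stalkMap_surjective i fun z => i.stalkMap_surjective z

theorem AICS.of_isOpenImmersion {Z : Scheme.{u}} (h : AICS Y) (i : Z ⟶ Y) [IsOpenImmersion i] : AICS Z :=
  h.of_isPreimmersion i

/-- absolute integral closedness is local -/
theorem AICS.of_openCover (𝒰 : Y.OpenCover) (h : ∀ i, AICS (𝒰.X i)) : AICS Y := fun y => by
  obtain ⟨i, z, rfl⟩ := 𝒰.exists_eq y
  exact isAIC_of_surjective (inv ((𝒰.f i).stalkMap z)).hom
    ((ConcreteCategory.bijective_of_isIso (inv ((𝒰.f i).stalkMap z))).2) (h i z)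

theorem aics_spec {R : Type u} [CommRing R] (h : Curves.IsAIC R) : AICS (Spec (CommRingCat.of R)) := fun x => by
  refine isAIC_of_surjective (StructureSheaf.stalkIso R x).toRingHom ?_
    (isAIC_localization x.asIdeal.primeCompl h)
  exact (StructureSheaf.stalkIso R x).surjective

/-- elements of the function field lying in all local rings are sections -/
theorem exists_section_of_forall_stalk [IsIntegral Y] (W : Y.Opens) [Nonempty W.toScheme] (hW : (W : Set Y).Nonempty) (z : Y.functionField)
    (hz : ∀ y ∈ W, z ∈ Set.range (algebraMap (Y.presheaf.stalk y) Y.functionField)) :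
    ∃ s : Γ(Y, W), Y.germToFunctionField W s = z := by
  have hloc : ∀ y : {x : Y // x ∈ W}, ∃ (V : Y.Opens) (_ : y.1 ∈ V) (_ : V ≤ W) (s : Γ(Y, V)) (hg : genericPoint Y ∈ V),
      Y.presheaf.germ V (genericPoint Y) hg s = z := fun y => by
    obtain ⟨t, ht⟩ := hz y.1 y.2
    obtain ⟨V, hyV, s, rfl⟩ := TopCat.Presheaf.exists_germ_eq Y.presheaf t
    refine ⟨V ⊓ W, ⟨hyV, y.2⟩, inf_le_right, Y.presheaf.map (homOfLE inf_le_left).op s,
      ((genericPoint_spec Y).specializes trivial).mem_open (V ⊓ W).2 ⟨hyV, y.2⟩, ?_⟩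
    rw [TopCat.Presheaf.germ_res_apply, ← ht]
    exact (TopCat.Presheaf.germ_stalkSpecializes_apply Y.presheaf hyV _ s).symm
  choose V hyV hVW s hg hs using hloc
  obtain ⟨t, ht, -⟩ := Y.sheaf.existsUnique_gluing' V W (fun y => homOfLE (hVW y))
    (fun x hx => Opens.mem_iSup.2 ⟨⟨x, hx⟩, hyV ⟨x, hx⟩⟩) s fun i j => by
      haveI : Nonempty (V i ⊓ V j : Y.Opens).toScheme := ⟨⟨_, hg i, hg j⟩⟩
      refine Y.germToFunctionField_injective (V i ⊓ V j) ?_
      show Y.presheaf.germ _ _ _ (Y.presheaf.map _ (s i)) = Y.presheaf.germ _ _ _ (Y.presheaf.map _ (s j))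
      rw [TopCat.Presheaf.germ_res_apply, TopCat.Presheaf.germ_res_apply, hs, hs]
  obtain ⟨w₀, hw₀⟩ := hW
  let y₀ : {x : Y // x ∈ W} := ⟨w₀, hw₀⟩
  refine ⟨t, ?_⟩
  rw [← hs y₀, ← ht y₀]
  exact (TopCat.Presheaf.germ_res_apply Y.presheaf _ _ _ _).symm

/-- sections of integral schemes with absolutely integrally closed local rings -/
theorem AICS.isAIC_sections (h : AICS Y) [IsIntegral Y] (W : Y.Opens) : Curves.IsAIC Γ(Y, W) := by
  intro f hf hd
  rcases Set.eq_empty_or_nonempty (W : Set Y) with hW | hW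
  · haveI : Subsingleton Γ(Y, W) := by
      have : W = ⊥ := Opens.ext hW
      subst this
      infer_instance
    exact ⟨0, Subsingleton.elim _ _⟩
  haveI := h.isAlgClosed_functionField
  haveI : Nonempty W.toScheme := ⟨⟨hW.some, hW.some_mem⟩⟩
  let φ := (Y.germToFunctionField W).hom
  obtain ⟨z, hz⟩ : ∃ z, (f.map φ).eval z = 0 := isAIC_of_isAlgClosed _ (hf.map φ) (by rwa [hf.natDegree_map])
  obtain ⟨s, hs⟩ := exists_section_of_forall_stalk W hW z fun y hy => by
    refine AICCover.mem_range_of_isIntegral (h y) ⟨f.map (Y.presheaf.germ W y hy).hom, hf.map _, ?_⟩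
    rw [eval₂_map, ← eval_map]
    have e : (algebraMap (Y.presheaf.stalk y) Y.functionField).comp (Y.presheaf.germ W y hy).hom = φ :=
      RingHom.ext fun a => TopCat.Presheaf.germ_stalkSpecializes_apply Y.presheaf hy _ a
    rw [e]
    exact hz
  refine ⟨s, Y.germToFunctionField_injective W ?_⟩
  rw [map_zero]
  show φ (f.eval s) = 0
  rw [← eval₂_at_apply, ← eval_map]
  exact (congrArg (fun a => (f.map φ).eval a) hs).trans hz

end Groth.Agent.EtAICLib
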