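import Groth.Agent.EtAICLib.Embed
import Mathlib.AlgebraicGeometry.ZariskisMainTheorem
import Mathlib.AlgebraicGeometry.IdealSheaf.Subscheme
import Mathlib.AlgebraicGeometry.Morphisms.QuasiFinite

/-!
# Proper morphisms are good
-/

set_option autoImplicit false
set_option linter.style.haveILetI false
set_option backward.isDefEq.respectTransparency false
set_option backward.isDefEq.respectTransparency.types false
set_option maxHeartbeats 2000000

universe u

open CategoryTheory CategoryTheory.Limits AlgebraicGeometry Opposite TopologicalSpace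

namespace Groth.Agent.EtAICLib

/-- products of good proper schemes over an affine one, without uniqueness -/
theorem exists_good_prod (B : Type u) [CommRing B] (ι : Type u) [Finite ι] :
    ∀ (Q : ι → Scheme.{u}) (q : ∀ i, Q i ⟶ Spec (CommRingCat.of B)), (∀ i, IsProper (q i)) → (∀ i, Good (q i)) →
      ∃ (P : Scheme.{u}) (p : P ⟶ Spec (CommRingCat.of B)) (π : ∀ i, P ⟶ Q i), IsProper p ∧ Good p ∧
        (∀ i, π i ≫ q i = p) ∧
        ∀ (T : Scheme.{u}) (a : T ⟶ Spec (CommRingCat.of B)) (χ : ∀ i, T ⟶ Q i), (∀ i, χ i ≫ q i = a) →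
          ∃ c : T ⟶ P, c ≫ p = a ∧ ∀ i, c ≫ π i = χ i := by
  induction ι using Finite.induction_empty_option with
  | @of_equiv α β e h =>
    intro Q q hq hg
    obtain ⟨P, p, π, hp, hpg, hπ, hl⟩ := h (fun x => Q (e x)) (fun x => q (e x)) (fun x => hq _) fun x => hg _
    have key : ∀ i, ∃ π' : P ⟶ Q i, π' ≫ q i = p ∧ ∀ (T : Scheme.{u}) (c : T ⟶ P) (x : T ⟶ Q i),
        (∀ x' : α, ∀ hx : e x' = i, c ≫ π x' ≫ eqToHom (by rw [hx]) = x) → c ≫ π' = x := by
      intro i
      obtain ⟨x, rfl⟩ := e.surjective i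
      exact ⟨π x, hπ x, fun T c y hy => by simpa using hy x rfl⟩
    choose π' hπ' hlift using key
    refine ⟨P, p, π', hp, hpg, hπ', fun T a χ hχ => ?_⟩
    obtain ⟨c, hc, hc'⟩ := hl T a (fun x => χ (e x)) fun x => hχ _
    refine ⟨c, hc, fun i => hlift i T c _ fun x hx => ?_⟩
    subst hx
    rw [eqToHom_refl, Category.comp_id]
    exact hc' x
  | h_empty =>
    intro Q q _ _
    exact ⟨_, 𝟙 _, fun i => i.elim, inferInstance, good_of_isIntegralHom _, fun i => i.elim,
      fun T a _ _ => ⟨a, Category.comp_id _, fun i => i.elim⟩⟩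
  | @h_option α _ h =>
    intro Q q hq hg
    obtain ⟨P, p, π, hp, hpg, hπ, hl⟩ := h (fun x => Q (some x)) (fun x => q (some x)) (fun x => hq _) fun x => hg _
    haveI := hq none
    haveI := hp
    let e₁ := pullback.fst p (q none)
    haveI : IsProper e₁ := MorphismProperty.pullback_fst _ _ inferInstance
    have hg₁ : Good e₁ := (hg none).of_isPullback (IsPullback.of_hasPullback p (q none)).flip
    refine ⟨_, e₁ ≫ p, fun i => match i with
      | none => pullback.snd p (q none)
      | some x => e₁ ≫ π x, inferInstance, hg₁.comp hpg, fun i => ?_, fun T a χ hχ => ?_⟩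
    · match i with
      | none => exact pullback.condition.symm
      | some x => exact (Category.assoc _ _ _).trans (whisker_eq _ (hπ x))
    · obtain ⟨c, hc, hc'⟩ := hl T a (fun x => χ (some x)) fun x => hχ _
      refine ⟨pullback.lift c (χ none) (hc.trans (hχ none).symm), ?_, fun i => ?_⟩
      · exact (pullback.lift_fst_assoc _ _ _ _).trans hc
      · match i with
        | none => exact pullback.lift_snd _ _ _
        | some x => exact (pullback.lift_fst_assoc _ _ _ _).trans (hc' x)

/-- the graph of an immersion of an open subscheme -/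
theorem eq_of_graphs {X Q Q' S : Scheme.{u}} (f : X ⟶ S) (q : Q ⟶ S) {U : Scheme.{u}} (o : U ⟶ X) [IsOpenImmersion o]
    (φ : U ⟶ Q') [IsImmersion φ] (q' : Q' ⟶ S) [IsSeparated q'] (π : Q ⟶ Q') (hπ : π ≫ q' = q) (hφ : φ ≫ q' = o ≫ f)
    {L : Scheme.{u}} (u : L ⟶ U) (χ : L ⟶ Q) (hu : χ ≫ π = u ≫ φ) (hus : (u ≫ o) ≫ f = χ ≫ q) (l : L)
    {z z' : ↥(pullback f q)} (hz : pullback.lift (u ≫ o) χ hus l ⤳ z) (hz' : pullback.lift (u ≫ o) χ hus l ⤳ z')
    (hzU : pullback.fst f q z ∈ Set.range o.base) (hzU' : pullback.fst f q z' ∈ Set.range o.base)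
    (heq : pullback.snd f q z = pullback.snd f q z') : z = z' := by
  let d : pullback φ π ⟶ pullback (φ ≫ q') (π ≫ q') := pullback.mapDesc φ π q'
  let ω : pullback (φ ≫ q') (π ≫ q') ⟶ pullback f q :=
    pullback.map _ _ _ _ o (𝟙 _) (𝟙 _) (by rw [Category.comp_id, hφ]) (by rw [Category.comp_id, Category.id_comp, hπ])
  haveI : IsClosedImmersion d := inferInstance
  haveI : IsOpenImmersion ω := inferInstance
  have hω : Set.range ω.base = (pullback.fst f q).base ⁻¹' Set.range o.base := by
    ext w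
    refine ⟨?_, fun hw => ?_⟩
    · rintro ⟨v, rfl⟩
      refine ⟨pullback.fst (φ ≫ q') (π ≫ q') v, ?_⟩
      rw [← Scheme.Hom.comp_apply, ← Scheme.Hom.comp_apply]
      simp [ω]
    · show w ∈ Set.range (pullback.map _ _ _ _ o (𝟙 _) (𝟙 _) _ _).base
      erw [Scheme.Pullback.range_map]
      exact ⟨hw, ⟨_, rfl⟩⟩
  let γ := pullback.lift (u ≫ o) χ hus l
  let l' : L ⟶ pullback φ π := pullback.lift u χ hu.symm
  have hγ : ω (d (l' l)) = γ := by
    rw [← Scheme.Hom.comp_apply, ← Scheme.Hom.comp_apply]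
    refine congrArg (fun m : L ⟶ _ => m l) ?_
    apply pullback.hom_ext <;> simp [ω, d, l', pullback.mapDesc]
  have key : ∀ w, γ ⤳ w → pullback.fst f q w ∈ Set.range o.base → w ∈ Set.range (d ≫ ω).base := by
    intro w hw hwU
    obtain ⟨v, rfl⟩ : w ∈ Set.range ω.base := hω.ge hwU
    have hv : d (l' l) ⤳ v := ω.isEmbedding.isInducing.specializes_iff.1 (hγ ▸ hw)
    obtain ⟨v', rfl⟩ : v ∈ Set.range d.base := hv.mem_closed d.isClosedEmbedding.isClosed_range ⟨_, rfl⟩
    exact ⟨v', Scheme.Hom.comp_apply _ _ _⟩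
  obtain ⟨v, rfl⟩ := key z hz hzU
  obtain ⟨v', rfl⟩ := key z' hz' hzU'
  have hs : (d ≫ ω) ≫ pullback.snd f q = pullback.snd φ π := by simp [ω, d, pullback.mapDesc]
  haveI : IsImmersion (pullback.snd φ π) := MorphismProperty.pullback_snd _ _ inferInstance
  rw [← Scheme.Hom.comp_apply, ← Scheme.Hom.comp_apply, hs] at heq
  rw [(pullback.snd φ π).isEmbedding.injective heq]

theorem good_of_isProper {P Z : Scheme.{u}} (p : P ⟶ Z) [IsProper p] : Good p := by
  intro B _ J _ b Y _ hY g hg
  haveI := hg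
  let X := pullback p b
  let f : X ⟶ Spec (CommRingCat.of B) := pullback.snd p b
  haveI : IsProper f := MorphismProperty.pullback_snd _ _ inferInstance
  haveI : CompactSpace X := QuasiCompact.compactSpace_of_compactSpace f
  let η := genericPoint Y
  let L := Spec (Y.presheaf.stalk η)
  let ξ : L ⟶ Y := Y.fromSpecStalk η
  have hξ : ∀ l, ξ l = η := fun l => by
    have h : ξ l ∈ Set.range (Y.fromSpecStalk η).base := ⟨l, rfl⟩
    rw [Scheme.range_fromSpecStalk] at h
    exact h.antisymm ((genericPoint_spec Y).specializes (Set.mem_univ _)) |>.eq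
  haveI : IsIntegral L := inferInstance
  have hL : AICS L := aics_spec (hY η)
  let x₀ := g η
  obtain ⟨s, hs⟩ := isCompact_univ.elim_finite_subcover (fun U : X.affineOpens => (U.1 : Set X))
    (fun U => U.1.2) (fun x _ => by
      obtain ⟨_, ⟨U, hU, rfl⟩, hxU, -⟩ := X.isBasis_affineOpens.exists_subset_of_mem_open (Set.mem_univ x) isOpen_univ
      exact Set.mem_iUnion.2 ⟨⟨U, hU⟩, hxU⟩)
  let ι : Type u := {U : X.affineOpens // U ∈ s ∧ x₀ ∈ U.1}
  haveI : Finite ι := Finite.of_injective (fun U : ι => (⟨U.1, U.2.1⟩ : {U // U ∈ s}))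
    fun a c h => Subtype.ext (congrArg Subtype.val h :)
  have hemb : ∀ U : ι, ∃ (Q : Scheme.{u}) (q : Q ⟶ Spec (CommRingCat.of B)) (φ : U.1.1.toScheme ⟶ Q),
      IsProper q ∧ Good q ∧ IsImmersion φ ∧ φ ≫ q = U.1.1.ι ≫ f := fun U => by
    haveI : IsAffine U.1.1.toScheme := U.1.2
    exact exists_good_immersion (U.1.1.ι ≫ f)
  choose Q q φ hq hqg hφ hφq using hemb
  obtain ⟨P', p', π, hp', hpg', hπ, hlift⟩ := exists_good_prod B ι Q q hq hqg
  haveI := hp'
  let h := g ≫ f
  have hu : ∀ U : ι, ∃ u : L ⟶ U.1.1.toScheme, u ≫ U.1.1.ι = ξ ≫ g := fun U =>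
    ⟨IsOpenImmersion.lift U.1.1.ι (ξ ≫ g) (by
      rintro _ ⟨l, rfl⟩
      rw [Scheme.Hom.comp_apply, hξ, Scheme.Opens.range_ι]
      exact U.2.2), IsOpenImmersion.lift_fac _ _ _⟩
  choose u hu using hu
  obtain ⟨χ, hχ, hχπ⟩ := hlift L (ξ ≫ h) (fun U => u U ≫ φ U) fun U => by
    rw [Category.assoc, hφq, reassoc_of% (hu U)]
  let Ψ : L ⟶ pullback p' h := pullback.lift χ ξ hχ
  haveI : IsSeparated (pullback.snd p' h ≫ h) := inferInstance
  haveI : IsAffineHom (Ψ ≫ (pullback.snd p' h ≫ h)) := isAffineHom_of_isAffine _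
  haveI : IsAffineHom Ψ := IsAffineHom.of_comp Ψ (pullback.snd p' h ≫ h)
  let Y' := Ψ.normalization
  let n : Y' ⟶ pullback p' h := Ψ.fromNormalization
  let τ : L ⟶ Y' := Ψ.toNormalization
  have hτn : τ ≫ n = Ψ := Ψ.toNormalization_fromNormalization
  have hY' : AICS Y' := aics_normalization_of_integral Ψ hL
  haveI : IsDominant (n ≫ pullback.snd p' h) := ⟨by
    refine dense_iff_closure_eq.2 (Set.eq_univ_of_univ_subset ?_)
    rw [← (genericPoint_spec Y).def]
    refine closure_mono (Set.singleton_subset_iff.2 ⟨τ (IsLocalRing.closedPoint (Y.presheaf.stalk η)), ?_⟩)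
    rw [← Scheme.Hom.comp_apply, reassoc_of% hτn, pullback.lift_snd]
    exact hξ _⟩
  refine vanish_descend n hpg' hY hY' J h ?_
  let σ : Y' ⟶ P' := n ≫ pullback.fst p' h
  have hσ : (n ≫ pullback.snd p' h) ≫ h = σ ≫ p' := by simp [σ, pullback.condition]
  let c : pullback p' h ⟶ pullback f p' := pullback.lift (pullback.snd _ _ ≫ g) (pullback.fst _ _)
    (by rw [Category.assoc]; exact pullback.condition.symm)
  haveI : IsIntegralHom c := by
    have sq : IsPullback (pullback.snd p' h) c g (pullback.fst f p') := by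
      refine IsPullback.of_bot ?_ (pullback.lift_fst _ _ _).symm (IsPullback.of_hasPullback f p')
      rw [show c ≫ pullback.snd f p' = pullback.fst p' h from pullback.lift_snd _ _ _]
      exact (IsPullback.of_hasPullback p' h).flip
    exact MorphismProperty.of_isPullback (P := @IsIntegralHom) sq inferInstance
  let m := n ≫ c
  let t := m.imageι ≫ pullback.snd f p'
  haveI : IsProper (pullback.snd f p') := MorphismProperty.pullback_snd _ _ inferInstance
  haveI : IsProper t := inferInstance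
  have hγ : ∀ v, m (τ (IsLocalRing.closedPoint (Y.presheaf.stalk η))) ⤳ m.imageι v := fun v => by
    refine specializes_iff_mem_closure.2 ?_
    have h1 : m.imageι v ∈ closure (Set.range m.base) := by
      have h2 : m.imageι v ∈ Set.range m.imageι.base := ⟨v, rfl⟩
      rw [Scheme.IdealSheafData.range_subschemeι, Scheme.Hom.support_ker] at h2
      exact h2
    refine closure_minimal (Set.range_subset_iff.2 fun y => ?_) isClosed_closure h1
    have hy : y ∈ closure (Set.range τ.base) := τ.denseRange.closure_range.ge (Set.mem_univ y)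
    refine closure_mono ?_ (map_mem_closure m.continuous hy fun z hz => Set.mem_image_of_mem m.base hz)
    rintro _ ⟨_, ⟨l, rfl⟩, rfl⟩
    rw [show l = IsLocalRing.closedPoint (Y.presheaf.stalk η) from
      Y.fromSpecStalk η |>.isEmbedding.injective ((hξ l).trans (hξ _).symm)]
    rfl
  haveI : LocallyQuasiFinite t := by
    refine (locallyQuasiFinite_iff_finite_preimage_singleton (f := t)).2 fun z => ?_
    have hmem : ∀ v : m.image, ∃ U : ι, pullback.fst f p' (m.imageι v) ∈ U.1.1 := fun v => by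
      obtain ⟨U, hUs, hv⟩ := Set.mem_iUnion₂.1 (hs (Set.mem_univ (pullback.fst f p' (m.imageι v))))
      refine ⟨⟨U, hUs, ?_⟩, hv⟩
      have := ((hγ v).map (pullback.fst f p').continuous).mem_open U.1.2 hv
      rwa [← Scheme.Hom.comp_apply, ← Scheme.Hom.comp_apply, Category.assoc, pullback.lift_fst,
        reassoc_of% hτn, pullback.lift_snd_assoc, Scheme.Hom.comp_apply, hξ] at this
    choose k hk using hmem
    refine Set.Finite.of_injOn (f := k) (t := Set.univ) (Set.mapsTo_univ _ _) (fun v hv v' hv' hkv => ?_) Set.finite_univ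
    refine m.imageι.isEmbedding.injective ?_
    have hlift : m (τ (IsLocalRing.closedPoint (Y.presheaf.stalk η))) =
        pullback.lift (u (k v) ≫ (k v).1.1.ι) χ (by rw [hu, Category.assoc]; exact hχ.symm)
          (IsLocalRing.closedPoint (Y.presheaf.stalk η)) := by
      rw [← Scheme.Hom.comp_apply]
      refine congrArg (fun e : L ⟶ _ => e _) ?_
      rw [show τ ≫ m = Ψ ≫ c from by simp only [m, reassoc_of% hτn]]
      apply pullback.hom_ext
      · simp only [c, Ψ, Category.assoc, pullback.lift_fst, pullback.lift_snd_assoc, hu]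
      · simp only [c, Ψ, Category.assoc, pullback.lift_snd, pullback.lift_fst]
    haveI := hφ (k v)
    haveI := hq (k v)
    refine eq_of_graphs f p' (k v).1.1.ι (φ (k v)) (q (k v)) (π (k v)) (hπ _) (hφq _) (u (k v)) χ (hχπ _) _ _
      (hlift ▸ hγ v) (hlift ▸ hγ v') ?_ ?_ ?_
    · rw [Scheme.Opens.range_ι]; exact hk v
    · rw [Scheme.Opens.range_ι, hkv]; exact hk v'
    · exact (Scheme.Hom.comp_apply _ _ _).symm.trans (hv.trans hv'.symm) |>.trans (Scheme.Hom.comp_apply _ _ _)
  haveI : IsFinite t := IsFinite.of_isProper_of_locallyQuasiFinite t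
  haveI : IsIntegralHom m.toImage :=
    MorphismProperty.of_postcomp (W := @IsIntegralHom) (W' := @IsSeparated) m.toImage m.imageι inferInstance
      (by rw [Scheme.Hom.toImage_imageι]; infer_instance)
  haveI : IsIntegralHom σ := by
    rw [show σ = m.toImage ≫ t from by
      simp only [σ, t, m, Scheme.Hom.toImage_imageι_assoc, Category.assoc, c, pullback.lift_snd]]
    infer_instance
  refine hpg'.vanish B J (𝟙 _) hY' _ (σ ≫ inv (pullback.fst p' (𝟙 _))) ?_
  rw [hσ, Category.assoc]
  refine whisker_eq _ ?_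
  rw [IsIso.inv_comp_eq, pullback.condition, Category.comp_id]

end Groth.Agent.EtAICLib

namespace Groth.Agent.EtAICLib

/-- schemes integral over proper ones over henselian pairs -/
theorem vanish_of_integral_proper {A : Type u} [CommRing A] (I : Ideal A) [HenselianRing A I] {Y X : Scheme.{u}}
    [IsIntegral Y] (hY : AICS Y) (r : Y ⟶ X) [IsIntegralHom r] (f : X ⟶ Spec (CommRingCat.of A)) [IsProper f] :
    Vanish I (r ≫ f) := by
  refine (good_of_isProper f).vanish A I (𝟙 _) hY _ (r ≫ inv (pullback.fst f (𝟙 _))) ?_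
  rw [Category.assoc]
  refine whisker_eq _ ?_
  rw [IsIso.inv_comp_eq, pullback.condition, Category.comp_id]

end Groth.Agent.EtAICLib
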