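import Groth.Agent.EtTorLib.ClosedQuot

/-!
# Cohomology of a closed subscheme depends only on its set of points
-/

set_option autoImplicit false
set_option linter.style.haveILetI false
set_option backward.isDefEq.respectTransparency false
set_option backward.isDefEq.respectTransparency.types false

universe u

open CategoryTheory CategoryTheory.Limits AlgebraicGeometry Opposite TopologicalSpace

namespace Groth.Agent.EtAICLib

open EtFound EtTorLib

variable {X Z : Scheme.{u}}

/-- the quotient supported on the range of a closed immersion is the direct image of the restriction -/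
theorem nonempty_quotSheaf_iso (F : EtCoh.Ab X) (T : Closeds X) (i : Z ⟶ X) [IsClosedImmersion i]
    (hi : Set.range i.base = (T : Set X)) :
    Nonempty (quotSheaf F T ≅ (EtCoh.push i).obj ((EtCoh.pull i).obj F)) := by
  let η := (EtCoh.pullPushAdj i).unit.app F
  have hk : kernel.ι (toQuot F T) ≫ η = 0 := by
    refine eq_of_stalks _ _ fun Ω _ _ ξ => ?_
    by_cases hξ : ξ.base (default : Spec (CommRingCat.of Ω)) ∈ T
    · haveI : IsIso ((EtCoh.stalk ξ).map (toQuot F T)) := isIso_stalk_toQuot ξ hξ
      have h0 : (EtCoh.stalk ξ).map (kernel.ι (toQuot F T)) = 0 := by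
        rw [← cancel_mono ((EtCoh.stalk ξ).map (toQuot F T)), zero_comp, ← Functor.map_comp, kernel.condition]
        exact Functor.map_zero _ _ _
      refine ((EtCoh.stalk ξ).map_comp _ _).trans ?_
      rw [h0, zero_comp]
      exact ((EtCoh.stalk ξ).map_zero _ _).symm
    · exact (isZero_stalk_push_closed i _ ξ (by rw [hi]; exact hξ)).eq_of_tgt _ _
  haveI := epi_toQuot F T
  let d : quotSheaf F T ⟶ (EtCoh.push i).obj ((EtCoh.pull i).obj F) := Abelian.epiDesc _ η hk
  haveI : IsIso d := by
    refine (isIso_iff_stalks _).2 fun Ω _ _ ξ => ?_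
    by_cases hξ : ξ.base (default : Spec (CommRingCat.of Ω)) ∈ T
    · have e : (EtCoh.stalk ξ).map (toQuot F T) ≫ (EtCoh.stalk ξ).map d = (EtCoh.stalk ξ).map η := by
        rw [← Functor.map_comp]
        exact congrArg (EtCoh.stalk ξ).map (Abelian.comp_epiDesc _ η hk)
      haveI := isIso_stalk_toQuot (F := F) ξ hξ
      haveI := isIso_stalk_unit_closed i F ξ (by rw [hi]; exact hξ)
      exact IsIso.of_isIso_fac_left e
    · exact (isZero_stalk_quot ξ hξ).isIso (isZero_stalk_push_closed i _ ξ (by rw [hi]; exact hξ)) _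
  exact ⟨asIso d⟩

/-- cohomology of a closed subscheme as cohomology of a sheaf upstairs -/
theorem nonempty_H_quot_closed (M : Type) [AddCommGroup M] (T : Closeds X) (i : Z ⟶ X) [IsClosedImmersion i]
    (hi : Set.range i.base = (T : Set X)) (q : ℕ) :
    Nonempty (EtCoh.H X (quotSheaf (EtCoh.const X M) T) q ≃+ EtCoh.H Z (EtCoh.const Z M) q) := by
  haveI := EtFound.pull_preservesFiniteLimits i
  obtain ⟨d⟩ := nonempty_quotSheaf_iso (EtCoh.const X M) T i hi
  exact ⟨((EtCoh.HF X q).mapIso d).addCommGroupIsoToAddEquiv.trans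
    ((AddEquiv.ofBijective (EtLim.HofPush i ((EtCoh.pull i).obj (EtCoh.const X M)) q)
      (BigSiteLib.hofPush_bijective i _ (fun p hp => isZero_Rpush_closedImmersion i _ p hp) q)).trans
      ((Abelian.extFunctorObj _ q).mapIso (EtCore.pullConst i M)).addCommGroupIsoToAddEquiv)⟩

/-- closed immersions with the same range have the same cohomology -/
theorem nonempty_H_closed_congr (M : Type) [AddCommGroup M] {Z' : Scheme.{u}} (i : Z ⟶ X) [IsClosedImmersion i]
    (i' : Z' ⟶ X) [IsClosedImmersion i'] (h : Set.range i.base = Set.range i'.base) (q : ℕ) :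
    Nonempty (EtCoh.H Z (EtCoh.const Z M) q ≃+ EtCoh.H Z' (EtCoh.const Z' M) q) := by
  obtain ⟨e⟩ := nonempty_H_quot_closed M ⟨_, i.isClosedEmbedding.isClosed_range⟩ i rfl q
  obtain ⟨e'⟩ := nonempty_H_quot_closed M ⟨_, i.isClosedEmbedding.isClosed_range⟩ i' h.symm q
  exact ⟨e.symm.trans e'⟩

end Groth.Agent.EtAICLib
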