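import Groth.Agent.EtAICLib.Basic
import Mathlib.AlgebraicGeometry.Normalization
import Mathlib.AlgebraicGeometry.Morphisms.UniversallyClosed

/-!
# Normalizations in absolutely integrally closed schemes
-/

set_option autoImplicit false
set_option linter.style.haveILetI false
set_option backward.isDefEq.respectTransparency false
set_option backward.isDefEq.respectTransparency.types false

universe u

open CategoryTheory CategoryTheory.Limits AlgebraicGeometry Opposite TopologicalSpace

namespace Groth.Agent.EtAICLib

variable {T Y : Scheme.{u}} (f : T ⟶ Y) [QuasiCompact f] [QuasiSeparated f]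

theorem aics_normalization (h : ∀ U : Y.Opens, IsAffineOpen U → Curves.IsAIC Γ(T, f ⁻¹ᵁ U)) :
    AICS f.normalization :=
  AICS.of_openCover f.normalizationOpenCover fun U =>
    aics_spec (R := f.normalizationDiagram.obj (op U.1)) (letI := (f.app U.1).hom.toAlgebra
      isAIC_integralClosure (h U.1 U.2))

theorem aics_normalization_of_integral [IsIntegral T] (hT : AICS T) : AICS f.normalization :=
  aics_normalization f fun _ _ => hT.isAIC_sections _

/-- compact opens of the spectrum of a product of fields are basic -/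
theorem exists_basicOpen_of_isCompact {ι : Type u} {K : ι → Type u} [∀ i, Field (K i)]
    (W : Set (PrimeSpectrum (∀ i, K i))) (hW : IsCompact W) (hW₀ : IsOpen W) :
    ∃ e : ∀ i, K i, W = PrimeSpectrum.basicOpen e := by
  classical
  obtain ⟨t, ht⟩ := PrimeSpectrum.isCompact_isOpen_iff.1 ⟨hW, hW₀⟩
  obtain ⟨s, hs, hW'⟩ : ∃ s : Set (∀ i, K i), s.Finite ∧ W = (PrimeSpectrum.zeroLocus s)ᶜ :=
    ⟨t, t.finite_toSet, ht.symm⟩
  let e : ∀ i, K i := fun i => if ∃ r ∈ s, r i ≠ 0 then 1 else 0
  refine ⟨e, hW'.trans ?_⟩
  ext p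
  simp only [PrimeSpectrum.basicOpen_eq_zeroLocus_compl, Set.mem_compl_iff, PrimeSpectrum.mem_zeroLocus,
    Set.singleton_subset_iff]
  refine not_congr ⟨fun h => ?_, fun h r hr => ?_⟩
  · obtain ⟨L, hL⟩ : ∃ L : Finset (∀ i, K i), (L : Set (∀ i, K i)) = s := ⟨hs.toFinset, hs.coe_toFinset⟩
    suffices ∀ L : Finset (∀ i, K i), (∀ r ∈ L, r ∈ p.asIdeal) →
        (fun i => if ∃ r ∈ L, r i ≠ 0 then (1 : K i) else 0) ∈ p.asIdeal by
      subst hL
      simp only [e, Finset.mem_coe, SetLike.mem_coe]
      exact this L fun r hr => h hr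
    intro L
    induction L using Finset.induction_on with
    | empty =>
      intro _
      convert p.asIdeal.zero_mem using 1
      funext i; simp
    | @insert a L ha ih =>
      intro hL
      let u : ∀ i, K i := fun i => (a i)⁻¹ * a i
      have hu : u ∈ p.asIdeal := Ideal.mul_mem_left _ (fun i => (a i)⁻¹) (hL a (Finset.mem_insert_self a L))
      let v : ∀ i, K i := fun i => if ∃ r ∈ L, r i ≠ 0 then (1 : K i) else 0
      have hv : v ∈ p.asIdeal := ih fun r hr => hL r (Finset.mem_insert_of_mem hr)
      convert p.asIdeal.add_mem hu (Ideal.mul_mem_left _ (1 - u) hv) using 1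
      funext i
      by_cases hai : a i = 0
      · simp [u, v, hai]
      · simp [u, hai]
  · have : r = r * e := funext fun i => by
      by_cases hri : r i = 0
      · simp [hri]
      · simp [e, if_pos (⟨r, hr, hri⟩ : ∃ r ∈ s, r i ≠ 0)]
    rw [SetLike.mem_coe, this]
    exact Ideal.mul_mem_left _ _ h

theorem aics_normalization_of_pi {ι : Type u} {K : ι → Type u} [∀ i, Field (K i)] [∀ i, IsAlgClosed (K i)]
    {Y : Scheme.{u}} (f : Spec (CommRingCat.of (∀ i, K i)) ⟶ Y) [QuasiCompact f] [QuasiSeparated f] :
    AICS f.normalization := aics_normalization f fun U hU => by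
  obtain ⟨e, he⟩ := exists_basicOpen_of_isCompact _ (f.isCompact_preimage hU.isCompact) (f ⁻¹ᵁ U).2
  have h : f ⁻¹ᵁ U = PrimeSpectrum.basicOpen e := Opens.ext he
  rw [h]
  have hpi : Curves.IsAIC (∀ i, K i) := isAIC_pi fun _ => isAIC_of_isAlgClosed
  exact isAIC_localization (A := ∀ i, K i)
    (B := ((Spec.structureSheaf (∀ i, K i)).obj.obj (op (PrimeSpectrum.basicOpen e)))) (Submonoid.powers e) hpi

theorem surjective_of_dominant {X Y : Scheme.{u}} (g : X ⟶ Y) [UniversallyClosed g] [IsDominant g] :
    Surjective g :=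
  ⟨fun y => (g.isClosedMap.isClosed_range.closure_eq.symm.trans g.denseRange.closure_range).ge (Set.mem_univ y)⟩

theorem universallyClosed_toNormalization [UniversallyClosed f] : UniversallyClosed f.toNormalization := by
  haveI : UniversallyClosed (f.toNormalization ≫ f.fromNormalization) := by
    rw [Scheme.Hom.toNormalization_fromNormalization]; infer_instance
  exact MorphismProperty.of_postcomp (W := @UniversallyClosed) (W' := @IsSeparated) _ f.fromNormalization
    inferInstance inferInstance

end Groth.Agent.EtAICLib
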