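import Groth.Agent.EtAICLib.Leray
import Groth.Agent.EtAICLib.Normalization

/-!
# Composites of good morphisms are good
-/

set_option autoImplicit false
set_option linter.style.haveILetI false
set_option backward.isDefEq.respectTransparency false
set_option backward.isDefEq.respectTransparency.types false
set_option maxHeartbeats 1000000

universe u

open CategoryTheory CategoryTheory.Limits AlgebraicGeometry Opposite TopologicalSpace

namespace Groth.Agent.EtAICLib

theorem Good.comp {P₁ P₂ Z : Scheme.{u}} {p₁ : P₁ ⟶ P₂} {p₂ : P₂ ⟶ Z} [IsProper p₁] [IsProper p₂]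
    (h₁ : Good p₁) (h₂ : Good p₂) : Good (p₁ ≫ p₂) := fun B _ J _ b Y _ hY g hg => by
  haveI := hg
  let c : pullback (p₁ ≫ p₂) b ⟶ pullback p₂ b := pullback.map _ _ _ _ p₁ (𝟙 _) (𝟙 _) (by simp) (by simp)
  have hc₁ : c ≫ pullback.fst p₂ b = pullback.fst _ _ ≫ p₁ := pullback.lift_fst _ _ _
  have hc₂ : c ≫ pullback.snd p₂ b = pullback.snd _ _ := (pullback.lift_snd _ _ _).trans (Category.comp_id _)
  haveI : IsProper (c ≫ pullback.snd p₂ b) := by rw [hc₂]; infer_instance
  haveI : IsProper c := IsProper.of_comp c (pullback.snd p₂ b)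
  let f := g ≫ c
  let Zn := f.normalization
  let n : Zn ⟶ pullback p₂ b := f.fromNormalization
  let τ : Y ⟶ Zn := f.toNormalization
  have hτ : τ ≫ n = g ≫ c := f.toNormalization_fromNormalization
  have hZ : AICS Zn := aics_normalization_of_integral f hY
  have hV : Vanish J (n ≫ pullback.snd p₂ b) := h₂ B J b Zn hZ n inferInstance
  let b' : Zn ⟶ P₂ := n ≫ pullback.fst p₂ b
  let g₁ : Y ⟶ pullback p₁ b' := pullback.lift (g ≫ pullback.fst _ _) τ (by
    rw [Category.assoc, ← hc₁, ← reassoc_of% hτ])
  let m : pullback p₁ b' ⟶ pullback (p₁ ≫ p₂) b := pullback.lift (pullback.fst p₁ b')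
    (pullback.snd p₁ b' ≫ n ≫ pullback.snd p₂ b) (by
      rw [pullback.condition_assoc]
      simp only [b', Category.assoc, pullback.condition])
  have hmc : m ≫ c = pullback.snd p₁ b' ≫ n := by
    apply pullback.hom_ext
    · simp only [Category.assoc, hc₁, m, pullback.lift_fst_assoc]
      rw [pullback.condition]
    · simp only [Category.assoc, hc₂, m, pullback.lift_snd]
  have hgm : g₁ ≫ m = g := by
    apply pullback.hom_ext
    · simp [g₁, m]
    · simp only [Category.assoc, g₁, m, pullback.lift_snd, pullback.lift_snd_assoc, reassoc_of% hτ, hc₂]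
  haveI : IsSeparated (m ≫ c) := by rw [hmc]; infer_instance
  haveI : IsSeparated m := IsSeparated.of_comp m c
  haveI : IsIntegralHom g₁ :=
    MorphismProperty.of_postcomp (W := @IsIntegralHom) (W' := @IsSeparated) g₁ m inferInstance
      (by rw [hgm]; infer_instance)
  haveI : IsDominant (g₁ ≫ pullback.snd p₁ b') := by
    rw [show g₁ ≫ pullback.snd p₁ b' = τ from pullback.lift_snd _ _ _]; infer_instance
  have := vanish_ascend g₁ h₁ hZ hY J (n ≫ pullback.snd p₂ b) hV
  rwa [show (g₁ ≫ pullback.snd p₁ b') ≫ n ≫ pullback.snd p₂ b = g ≫ pullback.snd (p₁ ≫ p₂) b by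
    rw [show g₁ ≫ pullback.snd p₁ b' = τ from pullback.lift_snd _ _ _, reassoc_of% hτ, hc₂]] at this

end Groth.Agent.EtAICLib
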