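import Groth.Agent.EtAICLib.Fibre
import Groth.Agent.EtH1Lib.Proper
import Groth.Agent.EtBCFib.ViaSquare
import Groth.Agent.EtContLib.ThenOps
import Groth.Agent.AlgGlue.FiniteModels
import Groth.Agent.S0646

/-!
# Degree one for schemes integral over proper ones over henselian pairs
-/

set_option autoImplicit false
set_option linter.style.haveILetI false
set_option backward.isDefEq.respectTransparency false
set_option backward.isDefEq.respectTransparency.types false
set_option maxHeartbeats 2000000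

universe u

open CategoryTheory CategoryTheory.Limits AlgebraicGeometry Opposite TopologicalSpace

namespace Groth.Agent.EtAICLib

open EtBCFib EtContLib in
/-- classes coming from a stage die -/
theorem HpullThen_eq_zero_of_square {Y D Y₀ D₀ : Scheme.{u}} (cπ : Y ⟶ D) (π₀ : Y₀ ⟶ D₀) (j : Y₀ ⟶ Y) (i : D₀ ⟶ D)
    (w : π₀ ≫ i = j ≫ cπ) [PreservesFiniteLimits (EtCoh.pull cπ)] [PreservesFiniteLimits (EtCoh.pull π₀)]
    [PreservesFiniteLimits (EtCoh.pull j)] [PreservesFiniteLimits (EtCoh.pull i)]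
    (F : EtCoh.Ab D) (q : ℕ) (hz : Subsingleton (EtCoh.H Y ((EtCoh.pull cπ).obj F) q))
    {G : EtCoh.Ab D₀} (pc : (EtCoh.pull i).obj F ⟶ G) (hs : ∀ x, ∃ η, EtLim.HpullThen i F pc q η = x)
    {M : EtCoh.Ab Y₀} (α : (EtCoh.pull π₀).obj G ⟶ M) (x : EtCoh.H D₀ G q) :
    EtLim.HpullThen π₀ G α q x = 0 := by
  obtain ⟨η, rfl⟩ := hs x
  haveI := EtFound.pull_preservesFiniteLimits (π₀ ≫ i)
  rw [HpullThen_comp π₀ i (π₀ ≫ i) rfl pc α q η]
  set c := comp2 π₀ i (π₀ ≫ i) rfl pc α
  rw [← comp2_viaHom j cπ (π₀ ≫ i) w.symm F c,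
    ← HpullThen_comp j cπ (π₀ ≫ i) w.symm (𝟙 _) (viaHom j cπ (π₀ ≫ i) w.symm F ≫ c) q η,
    @Subsingleton.elim _ hz (EtLim.HpullThen cπ F (𝟙 _) q η) 0, map_zero]

theorem subsingleton_H1_const {Y : Scheme.{u}} [IsIntegral Y] (hY : AICS Y) (M : Type) [AddCommGroup M] :
    Subsingleton (EtCoh.H Y (EtCoh.const Y M) 1) :=
  haveI := EtLC12.EtZarCompare.zarCont Y
  EtTorLib.subsingleton_H_const M hY.isStrictlyHenselian 1 one_pos

open EtBCFib EtContLib in
/-- the closed part has no first cohomology -/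
theorem subsingleton_H1_closedPart {A : Type u} [CommRing A] (I : Ideal A) [HenselianRing A I] {Y P : Scheme.{u}}
    [IsIntegral Y] (hY : AICS Y) (r : Y ⟶ P) [IsIntegralHom r] (g : P ⟶ Spec (CommRingCat.of A)) [IsProper g]
    (M : Type) [AddCommGroup M] [Finite M] :
    Subsingleton (EtCoh.H (pullback (r ≫ g) (Spec.map (CommRingCat.ofHom (Ideal.Quotient.mk I))))
      (EtCoh.const _ M) 1) := by
  let i := Spec.map (CommRingCat.ofHom (Ideal.Quotient.mk I))
  haveI : IsClosedImmersion i := IsClosedImmersion.spec_of_surjective _ Ideal.Quotient.mk_surjective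
  haveI : CompactSpace P := QuasiCompact.compactSpace_of_compactSpace g
  haveI : QuasiSeparatedSpace P := quasiSeparatedSpace_of_quasiSeparated g
  obtain ⟨K, _, _, _, E, c₀, hc₀, hE, ⟨e₀⟩⟩ := AlgGlue.exists_finite_fp_system r
  haveI := IsCofiltered.isConnected Kᵒᵖ
  let c' : Cone E := c₀.extend e₀.inv
  let hc' : IsLimit c' := hc₀.extendIso _
  let c₁ : Cone (E ⋙ Over.map g) := (Over.map g).mapCone c'
  let hc₁ : IsLimit c₁ := isLimitOfReflects (Over.forget _) (isLimitOfPreserves (Over.forget P) hc')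
  let c₂ := (Over.pullback i).mapCone c₁
  let hc₂ : IsLimit c₂ := isLimitOfPreserves (Over.pullback i) hc₁
  let Xs : Kᵒᵖ ⥤ Scheme.{u} := (E ⋙ Over.map g ⋙ Over.pullback i) ⋙ Over.forget _
  let c₃ : Cone Xs := (Over.forget _).mapCone c₂
  let hc₃ : IsLimit c₃ := isLimitOfPreserves (Over.forget _) hc₂
  haveI : ∀ a, IsFinite (E.obj a).hom := fun a => (hE a).1
  have hf : ∀ a, IsFinite (E.obj a).hom := fun a => (hE a).1
  haveI : ∀ a, IsProper ((E.obj a).hom ≫ g) := fun a => inferInstance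
  have haff : ∀ ⦃a b : Kᵒᵖ⦄ (h : a ⟶ b), IsAffineHom (Xs.map h) := fun a b h => by
    haveI : IsAffineHom (E.map h).left := by
      haveI : IsAffineHom ((E.map h).left ≫ (E.obj b).hom) := by rw [Over.w]; infer_instance
      exact IsAffineHom.of_comp _ (E.obj b).hom
    have sq : IsPullback (Xs.map h) (pullback.fst ((E.obj a).hom ≫ g) i) (pullback.fst ((E.obj b).hom ≫ g) i)
        (E.map h).left := by
      refine IsPullback.of_right ?_ (pullback.lift_fst _ _ _) (IsPullback.of_hasPullback ((E.obj b).hom ≫ g) i).flip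
      have e1 : Xs.map h ≫ pullback.snd ((E.obj b).hom ≫ g) i = pullback.snd ((E.obj a).hom ≫ g) i :=
        pullback.lift_snd _ _ _
      rw [e1, ← Category.assoc, Over.w]
      exact (IsPullback.of_hasPullback ((E.obj a).hom ≫ g) i).flip
    exact MorphismProperty.of_isPullback (P := @IsAffineHom) sq.flip ‹_›
  have hqc : ∀ a, CompactSpace ↥(Xs.obj a) := fun a => by
    haveI : QuasiCompact (pullback.snd ((E.obj a).hom ≫ g) i) := MorphismProperty.pullback_snd _ _ inferInstance
    exact QuasiCompact.compactSpace_of_compactSpace (pullback.snd ((E.obj a).hom ≫ g) i)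
  have hqs : ∀ a, QuasiSeparatedSpace ↥(Xs.obj a) := fun a => by
    haveI : QuasiSeparated (pullback.snd ((E.obj a).hom ≫ g) i) := MorphismProperty.pullback_snd _ _ inferInstance
    exact quasiSeparatedSpace_of_quasiSeparated (pullback.snd ((E.obj a).hom ≫ g) i)
  haveI : ∀ a, PreservesFiniteLimits (EtCoh.pull (c₃.π.app a)) := fun a => EtFound.pull_preservesFiniteLimits _
  haveI : ∀ {a b : Kᵒᵖ} (h : a ⟶ b), PreservesFiniteLimits (EtCoh.pull (Xs.map h)) :=
    fun h => EtFound.pull_preservesFiniteLimits _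
  let k₀ : K := Classical.arbitrary K
  have key : ∀ ξ : EtCoh.H c₃.pt ((EtCoh.pull (c₃.π.app (op k₀))).obj (EtCoh.const (Xs.obj (op k₀)) M)) 1, ξ = 0 := by
    intro ξ
    obtain ⟨k, hk, x, rfl⟩ := (S0646.result Xs haff hqc hqs c₃ hc₃ k₀ (EtCoh.const (Xs.obj (op k₀)) M) 1).1 ξ
    let t := Xs.map (homOfLE hk).op
    let π₀ := c₃.π.app (op k)
    rw [HpullVia_eq_then]
    have e := HpullThen_map_source π₀ (EtCore.pullConst t M).hom
      ((EtCoh.pull π₀).map (EtCore.pullConst t M).inv ≫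
        viaHom π₀ t (c₃.π.app (op k₀)) (c₃.w (homOfLE hk).op) (EtCoh.const (Xs.obj (op k₀)) M)) 1 x
    rw [← Category.assoc, ← Functor.map_comp, Iso.hom_inv_id, CategoryTheory.Functor.map_id, Category.id_comp] at e
    rw [e]
    let D := (E.obj (op k)).left
    let h := (E.obj (op k)).hom ≫ g
    let ik : Xs.obj (op k) ⟶ D := pullback.fst h i
    haveI := EtFound.pull_preservesFiniteLimits ik
    haveI := EtFound.pull_preservesFiniteLimits (pullback.fst ((Over.mk r).hom ≫ g) i)
    haveI := EtFound.pull_preservesFiniteLimits (c'.π.app (op k)).left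
    have hz : Subsingleton (EtCoh.H Y ((EtCoh.pull (c'.π.app (op k)).left).obj (EtCoh.const D M)) 1) :=
      @Equiv.subsingleton _ _ ((Abelian.extFunctorObj _ 1).mapIso
        (EtCore.pullConst (c'.π.app (op k)).left M)).addCommGroupIsoToAddEquiv.toEquiv (subsingleton_H1_const hY M)
    refine HpullThen_eq_zero_of_square (Y := Y) (c'.π.app (op k)).left π₀ (pullback.fst ((Over.mk r).hom ≫ g) i) ik
      (pullback.lift_fst _ _ _) (EtCoh.const D M) 1 hz (EtCore.pullConst ik M).hom (fun z => ?_) _ _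
    obtain ⟨η, hη⟩ := (EtH1Lib.bijective_Hpull_one_const I h M).2
      ((EtCoh.HF _ 1).map (EtCore.pullConst ik M).inv z)
    refine ⟨η, ?_⟩
    show (EtCoh.HF _ 1).map (EtCore.pullConst ik M).hom (EtCore.Hpull ik _ 1 η) = z
    erw [hη, ← ConcreteCategory.comp_apply, ← Functor.map_comp, Iso.inv_hom_id, CategoryTheory.Functor.map_id]
    rfl
  haveI : Subsingleton (EtCoh.H c₃.pt ((EtCoh.pull (c₃.π.app (op k₀))).obj (EtCoh.const (Xs.obj (op k₀)) M)) 1) :=
    subsingleton_of_forall_eq 0 key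
  exact @Equiv.subsingleton _ _ ((Abelian.extFunctorObj _ 1).mapIso
    (EtCore.pullConst (c₃.π.app (op k₀)) M).symm).addCommGroupIsoToAddEquiv.toEquiv this

end Groth.Agent.EtAICLib
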