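import Groth.Agent.EtAICLib.P1
import Groth.Agent.EtAICLib.Comp
import Mathlib.AlgebraicGeometry.Morphisms.FiniteType
import Mathlib.AlgebraicGeometry.Morphisms.Immersion

/-!
# Affine schemes of finite type as subschemes of good proper schemes
-/

set_option autoImplicit false
set_option linter.style.haveILetI false
set_option backward.isDefEq.respectTransparency false
set_option backward.isDefEq.respectTransparency.types false
set_option maxHeartbeats 2000000

universe u

open CategoryTheory CategoryTheory.Limits AlgebraicGeometry Opposite TopologicalSpace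

namespace Groth.Agent.EtAICLib

open H23.P1Charts (Z chartZ)

theorem exists_box (B : Type u) [CommRing B] (n : ℕ) :
    ∃ (Q : Scheme.{u}) (q : Q ⟶ Spec (CommRingCat.of B)), IsProper q ∧ Good q ∧
      ∃ (W : Scheme.{u}) (j : W ⟶ Q), IsAffine W ∧ IsOpenImmersion j ∧
        ∀ (U : Scheme.{u}) (a : U ⟶ Spec (CommRingCat.of B)) (c : Fin n → Γ(U, ⊤)),
          ∃ φ : U ⟶ W, φ ≫ j ≫ q = a ∧ ∀ k, c k ∈ Set.range φ.appTop.hom := by
  induction n with
  | zero =>
    exact ⟨_, 𝟙 _, inferInstance, good_of_isIntegralHom _, _, 𝟙 _, inferInstance, inferInstance,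
      fun U a _ => ⟨a, by simp, fun k => k.elim0⟩⟩
  | succ n ih =>
    obtain ⟨Q, q, hq, hqg, W, j, hW, hj, hφ⟩ := ih
    haveI : IsProper (CohB1.ProjSpace.toSpec.{u} 1 Z.{u}) := PnCoh.Chow.isProper_toSpec _ _
    let sT : Q ⟶ Spec (CommRingCat.of Z.{u}) := specULiftZIsTerminal.from Q
    let e₁ := pullback.fst sT (CohB1.ProjSpace.toSpec 1 Z.{u})
    haveI : IsProper e₁ := MorphismProperty.pullback_fst _ _ inferInstance
    have hg₁ : Good e₁ := good_projLine.of_isPullback (IsPullback.of_hasPullback sT (CohB1.ProjSpace.toSpec 1 Z.{u})).flip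
    haveI := hq
    let t : Spec (CommRingCat.of (Polynomial Z.{u})) ⟶ Spec (CommRingCat.of Z.{u}) :=
      chartZ.{u} 0 ≫ CohB1.ProjSpace.toSpec 1 Z.{u}
    refine ⟨_, e₁ ≫ q, inferInstance, hg₁.comp hqg, pullback (j ≫ sT) t,
      pullback.map _ _ _ _ j (chartZ.{u} 0) (𝟙 _) (by simp) (by simp [t]), ?_, inferInstance, fun U a c => ?_⟩
    · haveI := hW; exact inferInstance
    obtain ⟨φ, hφ₁, hφ₂⟩ := hφ U a (fun k => c k.castSucc)
    let ev : Polynomial Z.{u} →+* Γ(U, ⊤) :=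
      Polynomial.eval₂RingHom ((Int.castRingHom Γ(U, ⊤)).comp ULift.ringEquiv.{0, u}.toRingHom) (c (Fin.last n))
    let ψ : U ⟶ Spec (CommRingCat.of (Polynomial Z.{u})) := U.toSpecΓ ≫ Spec.map (CommRingCat.ofHom ev)
    let φ' : U ⟶ pullback (j ≫ sT) t := pullback.lift φ ψ (specULiftZIsTerminal.hom_ext _ _)
    refine ⟨φ', ?_, fun k => ?_⟩
    · simp only [φ', e₁, pullback.map, pullback.lift_fst_assoc, Category.assoc]
      exact hφ₁
    have hsub : ∀ {T : Scheme.{u}} (p : pullback (j ≫ sT) t ⟶ T) (x : U ⟶ T), φ' ≫ p = x →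
        Set.range x.appTop.hom ⊆ Set.range φ'.appTop.hom := by
      rintro T p _ rfl _ ⟨y, rfl⟩
      exact ⟨p.appTop y, by rw [Scheme.Hom.comp_appTop]; rfl⟩
    refine Fin.lastCases ?_ (fun k => ?_) k
    · refine hsub (pullback.snd _ _) ψ (pullback.lift_snd _ _ _)
        ⟨(Scheme.ΓSpecIso (CommRingCat.of (Polynomial Z.{u}))).inv Polynomial.X, ?_⟩
      show (U.toSpecΓ ≫ Spec.map (CommRingCat.ofHom ev)).appTop
        ((Scheme.ΓSpecIso (CommRingCat.of (Polynomial Z.{u}))).inv Polynomial.X) = _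
      have e : (Scheme.ΓSpecIso (CommRingCat.of (Polynomial Z.{u}))).inv ≫
          (U.toSpecΓ ≫ Spec.map (CommRingCat.ofHom ev)).appTop = CommRingCat.ofHom ev := by
        rw [Scheme.Hom.comp_appTop, ← Category.assoc, ← Scheme.ΓSpecIso_inv_naturality, Category.assoc,
          Scheme.toSpecΓ_appTop, Iso.inv_hom_id, Category.comp_id]
      exact (congrArg (fun f => f.hom Polynomial.X) e).trans (Polynomial.eval₂_X _ _)
    · exact hsub (pullback.fst _ _) φ (pullback.lift_fst _ _ _) (hφ₂ k)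

theorem exists_good_immersion {B : Type u} [CommRing B] {U : Scheme.{u}} [IsAffine U]
    (a : U ⟶ Spec (CommRingCat.of B)) [LocallyOfFiniteType a] :
    ∃ (Q : Scheme.{u}) (q : Q ⟶ Spec (CommRingCat.of B)) (φ : U ⟶ Q),
      IsProper q ∧ Good q ∧ IsImmersion φ ∧ φ ≫ q = a := by
  have hft : a.appTop.hom.FiniteType := HasRingHomProperty.appTop @LocallyOfFiniteType _ inferInstance
  letI := a.appTop.hom.toAlgebra
  haveI : Algebra.FiniteType Γ(Spec (CommRingCat.of B), ⊤) Γ(U, ⊤) := hft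
  obtain ⟨s, hs⟩ := (inferInstance : Algebra.FiniteType Γ(Spec (CommRingCat.of B), ⊤) Γ(U, ⊤)).out
  obtain ⟨Q, q, hq, hqg, W, j, hW, hj, hφ⟩ := exists_box B s.card
  obtain ⟨φ, hφ₁, hφ₂⟩ := hφ U a fun k => (s.equivFin.symm k).1
  haveI := hW
  haveI := hj
  have hsurj : Function.Surjective φ.appTop.hom := fun y => by
    have hy : y ∈ Algebra.adjoin Γ(Spec (CommRingCat.of B), ⊤) (s : Set Γ(U, ⊤)) := by rw [hs]; trivial
    induction hy using Algebra.adjoin_induction with
    | mem x hx =>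
      obtain ⟨z, hz⟩ := hφ₂ (s.equivFin ⟨x, hx⟩)
      exact ⟨z, hz.trans (by rw [Equiv.symm_apply_apply])⟩
    | algebraMap r =>
      refine ⟨(j ≫ q).appTop r, ?_⟩
      show φ.appTop ((j ≫ q).appTop r) = a.appTop r
      rw [← hφ₁, Scheme.Hom.comp_appTop φ]
      rfl
    | add x y _ _ hx hy =>
      obtain ⟨x', rfl⟩ := hx
      obtain ⟨y', rfl⟩ := hy
      exact ⟨x' + y', map_add _ _ _⟩
    | mul x y _ _ hx hy =>
      obtain ⟨x', rfl⟩ := hx
      obtain ⟨y', rfl⟩ := hy
      exact ⟨x' * y', map_mul _ _ _⟩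
  haveI : IsClosedImmersion φ := IsClosedImmersion.of_surjective_of_isAffine φ hsurj
  exact ⟨Q, q, φ ≫ j, hq, hqg, inferInstance, by rw [Category.assoc]; exact hφ₁⟩

end Groth.Agent.EtAICLib
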