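import Groth.Agent.EtAICLib.Local

/-!
# Fibres are connected
-/

set_option autoImplicit false
set_option linter.style.haveILetI false
set_option backward.isDefEq.respectTransparency false
set_option backward.isDefEq.respectTransparency.types false
set_option maxHeartbeats 1000000

universe u

open CategoryTheory hiding IsConnected
open CategoryTheory.Limits AlgebraicGeometry Opposite TopologicalSpace

namespace Groth.Agent.EtAICLib

variable {P Z Y Y' : Scheme.{u}} [IsIntegral Y] [IsIntegral Y'] {p : P ⟶ Z} [IsProper p] {b : Y ⟶ Z}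

/-- integral over proper, dominant to a scheme with henselian local rings: connected fibres -/
theorem isConnected_preimage_singleton (hY : AICS Y) (g : Y' ⟶ pullback p b) [IsIntegralHom g]
    (hd : IsDominant (g ≫ pullback.snd p b)) (y : Y) :
    IsConnected ((g ≫ pullback.snd p b).base ⁻¹' {y}) := by
  haveI := hd
  let π := g ≫ pullback.snd p b
  let k := Y.fromSpecStalk y
  let R : Type u := (Y.presheaf.stalk y : Type u)
  haveI : HenselianLocalRing (Y.presheaf.stalk y) := (hY.isStrictlyHenselian y).1
  let m : Ideal (Y.presheaf.stalk y) := IsLocalRing.maximalIdeal _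
  haveI : HenselianRing (Y.presheaf.stalk y) m := henselianRing_of_ne_top (Ideal.IsMaximal.ne_top inferInstance)
  haveI : IsIntegral (pullback π k) := isIntegral_localPart π y
  obtain ⟨g', hg', hg''⟩ := isIntegralHom_localMap y g
  haveI := hg'
  have hc : IsConnected (EtH0Lib.Zof (g' ≫ pullback.snd p (k ≫ b)) m ∩ closure {genericPoint (pullback π k : Scheme.{u})}) :=
    EtH0Lib.isConnected_inter_closure m g' (pullback.snd p (k ≫ b)) _
  rw [show closure {genericPoint (pullback π k : Scheme.{u})} = Set.univ from (genericPoint_spec _).def,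
    Set.inter_univ, hg''] at hc
  have hcl : ∀ z : Spec (Y.presheaf.stalk y), z ∈ PrimeSpectrum.zeroLocus (m : Set (Y.presheaf.stalk y)) ↔
      z = IsLocalRing.closedPoint (Y.presheaf.stalk y) := fun z =>
    ⟨fun h => PrimeSpectrum.ext ((IsLocalRing.maximalIdeal.isMaximal _).eq_of_le z.2.ne_top h).symm,
      fun h => by subst h; exact fun x hx => hx⟩
  have himg : (pullback.fst π k).base '' EtH0Lib.Zof (pullback.snd π k) m = π.base ⁻¹' {y} := by
    ext x
    constructor
    · rintro ⟨w, hw, rfl⟩
      show π (pullback.fst π k w) = y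
      rw [← Scheme.Hom.comp_apply, pullback.condition, Scheme.Hom.comp_apply]
      exact (congrArg k.base ((hcl _).1 hw)).trans Y.fromSpecStalk_closedPoint
    · intro hx
      obtain ⟨w, hw₁, hw₂⟩ := Scheme.Pullback.exists_preimage_pullback (f := π) (g := k) x
        (IsLocalRing.closedPoint (Y.presheaf.stalk y)) ((show π x = y from hx).trans Y.fromSpecStalk_closedPoint.symm)
      exact ⟨w, (hcl _).2 hw₂, hw₁⟩
  exact himg ▸ hc.image _ (pullback.fst π k).continuous.continuousOn

omit [IsIntegral Y] [IsIntegral Y'] in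
/-- connectedness of fibres passes to closed subschemes -/
theorem isConnected_preimage_closed (π : Y' ⟶ Y) {Y₀ : Scheme.{u}} (j : Y₀ ⟶ Y) [IsClosedImmersion j]
    (h : ∀ y, IsConnected (π.base ⁻¹' {y})) (y₀ : Y₀) : IsConnected ((pullback.snd π j).base ⁻¹' {y₀}) := by
  have hS : (pullback.fst π j).base '' ((pullback.snd π j).base ⁻¹' {y₀}) = π.base ⁻¹' {j y₀} := by
    ext x
    constructor
    · rintro ⟨w, hw, rfl⟩
      show π (pullback.fst π j w) = j y₀
      rw [← Scheme.Hom.comp_apply, pullback.condition, Scheme.Hom.comp_apply, show pullback.snd π j w = y₀ from hw]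
    · intro hx
      obtain ⟨w, hw₁, hw₂⟩ := Scheme.Pullback.exists_preimage_pullback (f := π) (g := j) x y₀ hx
      exact ⟨w, hw₂, hw₁⟩
  refine ⟨Set.Nonempty.of_image (f := (pullback.fst π j).base) (hS ▸ (h _).1), ?_⟩
  exact (pullback.fst π j).isEmbedding.isInducing.isPreconnected_image.1 (hS ▸ (h _).2)

omit [IsIntegral Y] [IsIntegral Y'] in
/-- fibres of an etale base change over points with separably closed residue fields -/
theorem isConnected_fibre_pullback {X : Scheme.{u}} (e : X ⟶ Y) [Etale e] (π₀ : Y' ⟶ Y) (v : X)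
    [IsSepClosed (Y.residueField (e v))] (hc : IsConnected (π₀.base ⁻¹' {e v})) :
    IsConnected ((pullback.fst e π₀).base ⁻¹' {v}) := by
  let y := e v
  haveI : IsIso (e.residueFieldMap v) := by
    refine (ConcreteCategory.isIso_iff_bijective _).2 ⟨RingHom.injective _, ?_⟩
    letI := (e.residueFieldMap v).hom.toAlgebra
    haveI : Algebra.IsSeparable (Y.residueField (e v)) (X.residueField v) :=
      inferInstanceAs (letI : Algebra (Y.residueField (e.base v)) (X.residueField v) :=
        (e.residueFieldMap v).hom.toAlgebra; Algebra.IsSeparable (Y.residueField (e.base v)) (X.residueField v))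
    exact IsSepClosed.algebraMap_surjective (Y.residueField (e v)) (X.residueField v)
  haveI : ConnectedSpace (π₀.fiber y) := by
    haveI : ConnectedSpace (π₀.base ⁻¹' {y}) := isConnected_iff_connectedSpace.1 hc
    exact (π₀.fiberHomeo y).symm.surjective.connectedSpace (π₀.fiberHomeo y).symm.continuous
  let ρ := pullback.fst e π₀
  let kv := X.fromSpecResidueField v
  let α : Spec (X.residueField v) ≅ Spec (Y.residueField y) := asIso (Spec.map (e.residueFieldMap v))
  let φ : π₀.fiber y ⟶ pullback e π₀ :=
    pullback.lift (π₀.fiberToSpecResidueField y ≫ α.inv ≫ kv) (π₀.fiberι y) (by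
      simp only [Category.assoc, kv, ← Scheme.Hom.SpecMap_residueFieldMap_fromSpecResidueField]
      rw [show α.inv ≫ Spec.map (e.residueFieldMap v) ≫ Y.fromSpecResidueField (e v) = Y.fromSpecResidueField y from
        α.inv_hom_id_assoc _]
      exact pullback.condition.symm)
  have hrange : Set.range φ.base = ρ.base ⁻¹' {v} := by
    have h1 : ∀ z, ρ (φ z) = v := fun z => by
      rw [← Scheme.Hom.comp_apply]
      simp only [φ, ρ, pullback.lift_fst, Scheme.Hom.comp_apply]
      exact X.fromSpecResidueField_apply v _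
    refine Set.Subset.antisymm (Set.range_subset_iff.2 fun z => h1 z) fun w hw => ?_
    let k' := (pullback.fst ρ kv)
    obtain ⟨u, rfl⟩ : w ∈ Set.range k'.base := by
      show w ∈ Set.range (pullback.fst ρ kv).base
      rw [show Set.range (pullback.fst ρ kv).base = _ from Scheme.Pullback.range_fst _ _,
        Scheme.range_fromSpecResidueField]
      exact hw
    let ψ : pullback ρ kv ⟶ π₀.fiber y := pullback.lift (k' ≫ pullback.snd e π₀) (pullback.snd ρ kv ≫ α.hom) (by
      simp only [Category.assoc, k']
      rw [← pullback.condition, ← Category.assoc, pullback.condition, Category.assoc,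
        ← Scheme.Hom.SpecMap_residueFieldMap_fromSpecResidueField]
      rfl)
    refine ⟨ψ u, ?_⟩
    rw [← Scheme.Hom.comp_apply]
    have : ψ ≫ φ = k' := by
      apply pullback.hom_ext
      · simp only [φ, ψ, Category.assoc, pullback.lift_fst, Scheme.Hom.fiberToSpecResidueField,
          pullback.lift_snd_assoc, Iso.hom_inv_id_assoc]
        exact pullback.condition.symm
      · simp [φ, ψ, Scheme.Hom.fiberι]
    rw [this]
  have hcV : IsConnected (ρ.base ⁻¹' {v}) := hrange ▸ isConnected_range φ.continuous
  exact hcV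

omit [IsIntegral Y] [IsIntegral Y'] in
/-- connected fibres, separably closed residue fields: the constant sheaf is its own direct image -/
theorem connectedNear_of_fibres (π₀ : Y' ⟶ Y) [UniversallyClosed π₀] (hs : ∀ y, IsSepClosed (Y.residueField y))
    (hc : ∀ y, IsConnected (π₀.base ⁻¹' {y})) : EtTorLib.ConnectedNear π₀ := by
  intro V v
  haveI : Etale V.hom := V.prop
  haveI : IsSepClosed (((Functor.fromPUnit Y).obj V.right).residueField (V.hom v)) := hs (V.hom v)
  have hcV : IsConnected ((pullback.fst V.hom π₀).base ⁻¹' {v}) :=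
    isConnected_fibre_pullback V.hom π₀ v (hc _)
  let ρ := pullback.fst V.hom π₀
  obtain ⟨w₀, hw₀⟩ := hcV.1
  refine ⟨w₀, specializes_of_eq hw₀, fun S hS hwS => ?_⟩
  have hcl : IsClosed (ρ.base '' Sᶜ) := ρ.isClosedMap _ hS.2.isClosed_compl
  refine ⟨⟨(ρ.base '' Sᶜ)ᶜ, hcl.isOpen_compl⟩, ?_, fun w hw => by_contra fun hwS' => hw ⟨w, hwS', rfl⟩⟩
  rintro ⟨w, hw, hwv⟩
  exact hw (hcV.isPreconnected.subset_isClopen hS ⟨w₀, hw₀, hwS⟩ hwv)

end Groth.Agent.EtAICLib
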