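import Groth.Agent.EtAICLib.Basic
import Groth.Agent.EtAICLib.Closed
import Groth.Agent.EtTorLib.GabberConst
import Groth.Agent.EtH0Lib.ProperConn
import Mathlib.AlgebraicGeometry.Morphisms.Integral

/-!
# Morphisms with acyclic closed fibres after passing to absolutely integrally closed schemes
-/

set_option autoImplicit false
set_option linter.style.haveILetI false
set_option backward.isDefEq.respectTransparency false
set_option backward.isDefEq.respectTransparency.types false

universe u

open CategoryTheory CategoryTheory.Limits AlgebraicGeometry Opposite TopologicalSpace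

namespace Groth.Agent.EtAICLib

/-- the constant sheaves have no higher cohomology on the part over `V(J)` -/
def Vanish {B : Type u} [CommRing B] (J : Ideal B) {Y : Scheme.{u}} (h : Y ⟶ Spec (CommRingCat.of B)) : Prop :=
  ∀ (M : Type) [AddCommGroup M] [Finite M] (Y₀ : Scheme.{u}) (j : Y₀ ⟶ Y) [IsClosedImmersion j],
    Set.range j.base = EtH0Lib.Zof h J → ∀ q : ℕ, 0 < q → Subsingleton (EtCoh.H Y₀ (EtCoh.const Y₀ M) q)

/-- the morphisms over which `Vanish` holds universally -/
def Good {P Z : Scheme.{u}} (p : P ⟶ Z) : Prop :=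
  ∀ (B : Type u) [CommRing B] (J : Ideal B) [HenselianRing B J] (b : Spec (CommRingCat.of B) ⟶ Z)
    (Y : Scheme.{u}) [IsIntegral Y], AICS Y → ∀ (g : Y ⟶ pullback p b), IsIntegralHom g →
      Vanish J (g ≫ pullback.snd p b)

/-- it is enough to look at one closed subscheme -/
theorem vanish_of_one {B : Type u} [CommRing B] (J : Ideal B) {Y : Scheme.{u}} (h : Y ⟶ Spec (CommRingCat.of B))
    {Y₁ : Scheme.{u}} (j₁ : Y₁ ⟶ Y) [IsClosedImmersion j₁] (hj : Set.range j₁.base = EtH0Lib.Zof h J)
    (H : ∀ (M : Type) [AddCommGroup M] [Finite M] (q : ℕ), 0 < q → Subsingleton (EtCoh.H Y₁ (EtCoh.const Y₁ M) q)) :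
    Vanish J h := fun M _ _ Y₀ j _ hr q hq => by
  obtain ⟨e⟩ := nonempty_H_closed_congr M j j₁ (hr.trans hj.symm) q
  haveI := H M q hq
  exact e.toEquiv.subsingleton

theorem Good.vanish {P Z : Scheme.{u}} {p : P ⟶ Z} (hp : Good p) (B : Type u) [CommRing B] (J : Ideal B)
    [HenselianRing B J] (b : Spec (CommRingCat.of B) ⟶ Z) {Y : Scheme.{u}} [IsIntegral Y] (hY : AICS Y)
    (h : Y ⟶ Spec (CommRingCat.of B)) (g : Y ⟶ pullback p b) [hg : IsIntegralHom g]
    (e : g ≫ pullback.snd p b = h) : Vanish J h :=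
  e ▸ hp B J b Y hY g hg

/-- schemes integral over an affine one -/
theorem vanish_of_isAffine {B : Type u} [CommRing B] (J : Ideal B) {Y : Scheme.{u}} [IsAffine Y] [IsIntegral Y]
    (hY : AICS Y) (h : Y ⟶ Spec (CommRingCat.of B)) : Vanish J h := fun M _ _ Y₀ j _ _ q hq => by
  haveI := hY.isSepClosed_functionField
  exact EtTorLib.subsingleton_H_const_closed M hY.isIntegrallyClosed j q hq

theorem good_of_isIntegralHom {P Z : Scheme.{u}} (p : P ⟶ Z) [IsIntegralHom p] : Good p :=
  fun B _ J _ b Y _ hY g hg => by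
    haveI : IsAffine Y := isAffine_of_isAffineHom (g ≫ pullback.snd p b)
    exact vanish_of_isAffine J hY _

theorem Good.of_isPullback {P Z P' Z' : Scheme.{u}} {p : P ⟶ Z} (hp : Good p) {p' : P' ⟶ Z'} {a : P' ⟶ P}
    {k : Z' ⟶ Z} (sq : IsPullback a p' p k) : Good p' := fun B _ J _ b Y _ hY g hg => by
  let e := ((IsPullback.of_hasPullback p' b).paste_horiz sq).isoPullback
  haveI := hg
  exact hp.vanish B J (b ≫ k) hY _ (g ≫ e.hom) (by rw [Category.assoc, IsPullback.isoPullback_hom_snd])

end Groth.Agent.EtAICLib
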