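import Groth.Agent.EtTorLib.GabberConst

/-!
# Degree zero classes of constant sheaves on closed subsets
-/

set_option autoImplicit false
set_option linter.style.haveILetI false
set_option backward.isDefEq.respectTransparency false
set_option backward.isDefEq.respectTransparency.types false

universe u

open CategoryTheory CategoryTheory.Limits AlgebraicGeometry Opposite TopologicalSpace

namespace Groth.Agent.EtAICLib

open EtFound EtTorLib

variable {X : Scheme.{u}} {M : Type} [AddCommGroup M]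

/-- the tautological lift of a geometric point to the final object -/
noncomputable def topPoint {Ω : Type u} [Field Ω] [IsSepClosed Ω] (ξ : Spec (CommRingCat.of Ω) ⟶ X) :
    (Scheme.pointSmallEtale ξ).fiber.obj (EtCoh.top X) :=
  CategoryTheory.Over.homMk ξ (Category.comp_id _)

/-- the germ of a global section -/
noncomputable def germTop (G : EtCoh.Ab X) {Ω : Type u} [Field Ω] [IsSepClosed Ω] (ξ : Spec (CommRingCat.of Ω) ⟶ X)
    (s : G.obj.obj (op (EtCoh.top X))) : (EtCoh.stalk ξ).obj G :=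
  (Scheme.pointSmallEtale ξ).toPresheafFiber (EtCoh.top X) (topPoint ξ) G.obj s

/-- the generator of `const ℤ` -/
noncomputable def genSect (X : Scheme.{u}) : (EtCoh.const X ℤ).obj.obj (op (EtCoh.top X)) :=
  constSect ℤ (EtCoh.top X) ⟨1⟩

theorem map_germTop {F G : EtCoh.Ab X} (b : F ⟶ G) {Ω : Type u} [Field Ω] [IsSepClosed Ω]
    (ξ : Spec (CommRingCat.of Ω) ⟶ X) (s : F.obj.obj (op (EtCoh.top X))) :
    (EtCoh.stalk ξ).map b (germTop F ξ s) = germTop G ξ (b.hom.app (op (EtCoh.top X)) s) :=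
  (Scheme.pointSmallEtale ξ).toPresheafFiber_naturality_apply b.hom _ _ s

/-- the value of a degree zero class at a geometric point -/
def Val {T : Closeds X} (b : EtCoh.const X ℤ ⟶ quotSheaf (EtCoh.const X M) T) {Ω : Type u} [Field Ω]
    [IsSepClosed Ω] (ξ : Spec (CommRingCat.of Ω) ⟶ X) (m : M) : Prop :=
  (EtCoh.stalk ξ).map b (germTop _ ξ (genSect X)) =
    (EtCoh.stalk ξ).map (toQuot (EtCoh.const X M) T) (germTop _ ξ (constSect M (EtCoh.top X) ⟨m⟩))

variable {T T' : Closeds X}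

theorem existsUnique_val (b : EtCoh.const X ℤ ⟶ quotSheaf (EtCoh.const X M) T) {Ω : Type u} [Field Ω]
    [IsSepClosed Ω] (ξ : Spec (CommRingCat.of Ω) ⟶ X) (h : ξ.base (default : Spec (CommRingCat.of Ω)) ∈ T) :
    ∃! m, Val b ξ m := by
  have h1 := isIso_stalk_toQuot (F := EtCoh.const X M) ξ h
  have hb : Function.Bijective fun m : ULift.{u + 1} M =>
      (EtCoh.stalk ξ).map (toQuot (EtCoh.const X M) T) (germTop _ ξ (constSect M (EtCoh.top X) m)) :=
    ((ConcreteCategory.isIso_iff_bijective _).1 h1).comp (constSect_germ_bijective M (EtCoh.top X) (topPoint ξ))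
  obtain ⟨⟨m⟩, hm, hu⟩ := hb.existsUnique ((EtCoh.stalk ξ).map b (germTop _ ξ (genSect X)))
  exact ⟨m, hm.symm, fun m' hm' => congrArg ULift.down (hu ⟨m'⟩ hm'.symm)⟩

/-- a class of degree zero is determined by its values -/
theorem hom_ext_of_val {b b' : EtCoh.const X ℤ ⟶ quotSheaf (EtCoh.const X M) T}
    (h : ∀ (Ω : Type u) [Field Ω] [IsSepClosed Ω] (ξ : Spec (CommRingCat.of Ω) ⟶ X),
      ξ.base (default : Spec (CommRingCat.of Ω)) ∈ T → ∃ m, Val b ξ m ∧ Val b' ξ m) : b = b' := by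
  refine eq_of_stalks _ _ fun Ω _ _ ξ => ?_
  by_cases hξ : ξ.base (default : Spec (CommRingCat.of Ω)) ∈ T
  · obtain ⟨m, h1, h2⟩ := h Ω ξ hξ
    ext z
    obtain ⟨⟨k⟩, hk⟩ := (constSect_germ_bijective ℤ (EtCoh.top X) (topPoint ξ)).2 z
    have e : z = k • germTop (EtCoh.const X ℤ) ξ (genSect X) := by
      rw [← hk, germTop, genSect]
      dsimp only
      refine (congrArg _ (congrArg _ (show (⟨k⟩ : ULift.{u + 1} ℤ) = k • ⟨1⟩ from ULift.ext _ _ ?_))).trans
        ((congrArg _ (map_zsmul (constSect ℤ (EtCoh.top X)).hom k _)).trans (map_zsmul _ k _))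
      show k = k • 1
      simp
    rw [e, map_zsmul, map_zsmul]
    exact congrArg (k • ·) (h1.trans h2.symm)
  · exact (isZero_stalk_quot ξ hξ).eq_of_tgt _ _

theorem Val.restrict {b : EtCoh.const X ℤ ⟶ quotSheaf (EtCoh.const X M) T'} {Ω : Type u} [Field Ω]
    [IsSepClosed Ω] {ξ : Spec (CommRingCat.of Ω) ⟶ X} {m : M} (h : Val b ξ m) (hle : T ≤ T') :
    Val (b ≫ quotMap (EtCoh.const X M) hle) ξ m := by
  rw [Val, Functor.map_comp, ConcreteCategory.comp_apply, h, ← ConcreteCategory.comp_apply, ← Functor.map_comp,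
    toQuot_quotMap]

theorem val_of_restrict {b : EtCoh.const X ℤ ⟶ quotSheaf (EtCoh.const X M) T'} {Ω : Type u} [Field Ω]
    [IsSepClosed Ω] {ξ : Spec (CommRingCat.of Ω) ⟶ X} {m : M} (hle : T ≤ T')
    (hξ : ξ.base (default : Spec (CommRingCat.of Ω)) ∈ T)
    (h : Val (b ≫ quotMap (EtCoh.const X M) hle) ξ m) : Val b ξ m := by
  obtain ⟨m', hm', -⟩ := existsUnique_val b ξ (hle hξ)
  rwa [(existsUnique_val (b ≫ quotMap (EtCoh.const X M) hle) ξ hξ).unique h (hm'.restrict hle)]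

theorem Val.sub {b b' : EtCoh.const X ℤ ⟶ quotSheaf (EtCoh.const X M) T} {Ω : Type u} [Field Ω]
    [IsSepClosed Ω] {ξ : Spec (CommRingCat.of Ω) ⟶ X} {m m' : M} (h : Val b ξ m) (h' : Val b' ξ m') :
    Val (b - b') ξ (m - m') := by
  haveI : (EtCoh.stalk ξ).Additive := Functor.additive_of_preserves_binary_products _
  rw [Val, Functor.map_sub]
  show (EtCoh.stalk ξ).map b _ - (EtCoh.stalk ξ).map b' _ = _
  rw [h, h']
  exact (map_sub _ _ _).symm.trans (congrArg _ ((map_sub _ _ _).symm.trans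
    (congrArg _ ((map_sub (constSect M (EtCoh.top X)).hom _ _).symm.trans rfl))))

/-- multiples of an element, with values one universe up -/
noncomputable def multHom (m : M) : ULift.{u + 1} ℤ →+ ULift.{u + 1} M :=
  AddMonoidHom.mk' (fun k => ⟨k.down • m⟩) fun a b => ULift.ext _ _ (add_zsmul m a.down b.down)

/-- the class of a constant -/
noncomputable def constHom (X : Scheme.{u}) (m : M) : EtCoh.const X ℤ ⟶ EtCoh.const X M :=
  (constantSheaf X.smallEtaleTopology AddCommGrpCat.{u + 1}).map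
    (AddCommGrpCat.ofHom (multHom m))

theorem val_constHom (m : M) {Ω : Type u} [Field Ω] [IsSepClosed Ω] (ξ : Spec (CommRingCat.of Ω) ⟶ X) :
    Val (constHom X m ≫ toQuot (EtCoh.const X M) T) ξ m := by
  rw [Val, Functor.map_comp, ConcreteCategory.comp_apply]
  refine congrArg _ ((map_germTop _ ξ _).trans (congrArg _ ?_))
  have e := (toSheafify_naturality X.smallEtaleTopology
    ((Functor.const X.Etaleᵒᵖ).map (AddCommGrpCat.ofHom (multHom.{u} m))))
  have e' := ConcreteCategory.congr_hom (NatTrans.congr_app e (op (EtCoh.top X))) (⟨1⟩ : ULift.{u + 1} ℤ)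
  refine e'.symm.trans ?_
  show constSect M (EtCoh.top X) ⟨(1 : ℤ) • m⟩ = _
  rw [one_zsmul]

/-- the value is locally constant -/
theorem exists_open_val (b : EtCoh.const X ℤ ⟶ quotSheaf (EtCoh.const X M) T) {Ω : Type u} [Field Ω]
    [IsSepClosed Ω] {ξ : Spec (CommRingCat.of Ω) ⟶ X} {m : M} (hm : Val b ξ m) :
    ∃ U : Set X, IsOpen U ∧ ξ.base (default : Spec (CommRingCat.of Ω)) ∈ U ∧
      ∀ (Ω' : Type u) [Field Ω'] [IsSepClosed Ω'] (ξ' : Spec (CommRingCat.of Ω') ⟶ X),
        ξ'.base (default : Spec (CommRingCat.of Ω')) ∈ U → Val b ξ' m := by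
  let s := b.hom.app (op (EtCoh.top X)) (genSect X)
  let t := (toQuot (EtCoh.const X M) T).hom.app (op (EtCoh.top X)) (constSect M (EtCoh.top X) ⟨m⟩)
  have hst : germTop _ ξ s = germTop _ ξ t := (map_germTop b ξ _).symm.trans (hm.trans (map_germTop _ ξ _))
  obtain ⟨W, a, z, hz, ha⟩ := ((Scheme.pointSmallEtale ξ).toPresheafFiber_eq_iff' _ (topPoint ξ) s t).1 hst
  have := etale_left a
  refine ⟨Set.range a.left.base, a.left.isOpenMap.isOpen_range,
    ⟨(z.left : Spec (CommRingCat.of Ω) ⟶ W.left).base (default : Spec (CommRingCat.of Ω)), ?_⟩,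
    fun Ω' _ _ ξ' ⟨y, hy⟩ => ?_⟩
  · exact (Scheme.Hom.comp_apply _ _ _).symm.trans
      (congrArg (fun q : (Scheme.pointSmallEtale ξ).fiber.obj (EtCoh.top X) =>
        (q.left : Spec (CommRingCat.of Ω) ⟶ X).base (default : Spec (CommRingCat.of Ω))) hz)
  · obtain ⟨z', hz', -⟩ := exists_lift_point a (topPoint ξ') y hy
    refine (map_germTop b ξ' _).trans (Eq.trans ?_ (map_germTop _ ξ' _).symm)
    show germTop _ ξ' s = germTop _ ξ' t
    rw [germTop, germTop, ← hz', ← GrothendieckTopology.Point.toPresheafFiber_w_apply,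
      ← GrothendieckTopology.Point.toPresheafFiber_w_apply]
    exact congrArg _ ha

/-- the extension by zero along a complementary closed piece -/
theorem exists_extension (F : EtCoh.Ab X) {A B : Closeds X} (hA : A ≤ T) (hB : B ≤ T)
    (hu : (T : Set X) = (A : Set X) ∪ B) (hd : Disjoint (A : Set X) B) :
    ∃ t : quotSheaf F B ⟶ quotSheaf F T, t ≫ quotMap F hB = 𝟙 _ ∧ t ≫ quotMap F hA = 0 := by
  let k : kernel (quotMap F hA) ⟶ quotSheaf F B := kernel.ι (quotMap F hA) ≫ quotMap F hB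
  haveI : IsIso k := by
    refine (isIso_iff_stalks _).2 fun Ω _ _ ξ => ?_
    haveI : (EtCoh.stalk ξ).Additive := Functor.additive_of_preserves_binary_products _
    haveI : Epi (quotMap F hA) :=
      haveI : Epi (toQuot F T ≫ quotMap F hA) := by rw [toQuot_quotMap]; infer_instance
      epi_of_epi (toQuot F T) _
    let S : ShortComplex (EtCoh.Ab X) := ShortComplex.mk (kernel.ι (quotMap F hA)) _ (kernel.condition _)
    haveI : Epi S.g := inferInstanceAs (Epi (quotMap F hA))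
    have hS : S.ShortExact := { exact := ShortComplex.exact_of_f_is_kernel _ (kernelIsKernel _) }
    haveI hm : Mono ((EtCoh.stalk ξ).map S.f) := inferInstance
    by_cases hξ : ξ.base (default : Spec (CommRingCat.of Ω)) ∈ A
    · have hz : IsZero ((EtCoh.stalk ξ).obj S.X₁) := by
        refine IsZero.of_mono_eq_zero ((EtCoh.stalk ξ).map S.f) ?_
        haveI : IsIso ((EtCoh.stalk ξ).map S.g) := isIso_stalk_quotMap F hA ξ hξ
        rw [← cancel_mono ((EtCoh.stalk ξ).map S.g), zero_comp, ← Functor.map_comp, S.zero, Functor.map_zero]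
      exact hz.isIso (isZero_stalk_quot ξ (hd.notMem_of_mem_left hξ)) _
    · haveI h4 : IsIso ((EtCoh.stalk ξ).map S.f) :=
        (hS.map_of_exact (EtCoh.stalk ξ)).isIso_f_iff.2 (isZero_stalk_quot ξ hξ)
      haveI h3 : IsIso ((EtCoh.stalk ξ).map (quotMap F hB)) := bijective_stalk_quotMap F hB ξ (by
        by_cases hξ2 : ξ.base (default : Spec (CommRingCat.of Ω)) ∈ B
        · exact Or.inl hξ2
        · exact Or.inr fun h => (show _ ∈ (A : Set X) ∪ B from hu ▸ h).elim hξ hξ2)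
      show IsIso ((EtCoh.stalk ξ).map (S.f ≫ quotMap F hB))
      rw [Functor.map_comp]
      infer_instance
  refine ⟨inv k ≫ kernel.ι _, ?_, ?_⟩
  · rw [Category.assoc]
    exact IsIso.inv_hom_id k
  · rw [Category.assoc, kernel.condition, comp_zero]

/-- every locally constant function is the value of a class -/
theorem exists_hom_val : ∀ (S : Finset M) (T : Closeds X) (h : T → M), IsLocallyConstant h → (∀ x, h x ∈ S) →
    ∃ b : EtCoh.const X ℤ ⟶ quotSheaf (EtCoh.const X M) T,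
      ∀ (Ω : Type u) [Field Ω] [IsSepClosed Ω] (ξ : Spec (CommRingCat.of Ω) ⟶ X)
        (hξ : ξ.base (default : Spec (CommRingCat.of Ω)) ∈ T), Val b ξ (h ⟨_, hξ⟩) := by
  classical
  intro S
  induction S using Finset.induction_on with
  | empty => exact fun T h _ hS => ⟨0, fun Ω _ _ ξ hξ => absurd (hS ⟨_, hξ⟩) (Finset.notMem_empty _)⟩
  | @insert m S _ ih =>
    intro T h hh hS
    let A : Closeds X := ⟨Subtype.val '' {x : T | h x = m},
      (T.isClosed.isClosedEmbedding_subtypeVal).isClosedMap _ (hh.isClosed_fiber m)⟩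
    let B : Closeds X := ⟨Subtype.val '' {x : T | h x = m}ᶜ,
      (T.isClosed.isClosedEmbedding_subtypeVal).isClosedMap _ ((hh.isClopen_fiber m).compl.1)⟩
    have hA : A ≤ T := fun x ⟨y, _, hy⟩ => hy ▸ y.2
    have hB : B ≤ T := fun x ⟨y, _, hy⟩ => hy ▸ y.2
    have hu : (T : Set X) = (A : Set X) ∪ B := by
      ext x
      refine ⟨fun hx => ?_, fun hx => hx.elim (fun h => hA h) (fun h => hB h)⟩
      by_cases hm : h ⟨x, hx⟩ = m
      · exact Or.inl ⟨⟨x, hx⟩, hm, rfl⟩
      · exact Or.inr ⟨⟨x, hx⟩, hm, rfl⟩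
    have hd : Disjoint (A : Set X) B :=
      Set.disjoint_left.2 fun x ⟨y, hy, e⟩ ⟨y', hy', e'⟩ => hy' (Subtype.ext (e'.trans e.symm) ▸ hy)
    obtain ⟨bB, hbB⟩ := ih B (fun x => h ⟨x, hB x.2⟩)
      (hh.comp_continuous (continuous_subtype_val.subtype_mk _)) (fun x => by
        obtain ⟨y, hy, e⟩ := x.2
        exact Finset.mem_of_mem_insert_of_ne (hS _) fun e' => hy (by
          rwa [show y = ⟨x.1, hB x.2⟩ from Subtype.ext e]))
    obtain ⟨tB, htBB, htBA⟩ := exists_extension (EtCoh.const X M) hA hB hu hd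
    obtain ⟨tA, htAA, htAB⟩ := exists_extension (EtCoh.const X M) hB hA (hu.trans (Set.union_comm _ _)) hd.symm
    refine ⟨(constHom X m ≫ toQuot _ A) ≫ tA + bB ≫ tB, fun Ω _ _ ξ hξ => ?_⟩
    by_cases hm : h ⟨_, hξ⟩ = m
    · refine val_of_restrict hA ⟨⟨_, hξ⟩, hm, rfl⟩ ?_
      simp only [Preadditive.add_comp, Category.assoc, htAA, htBA, Category.comp_id, comp_zero, add_zero, hm]
      exact val_constHom m ξ
    · refine val_of_restrict hB ⟨⟨_, hξ⟩, hm, rfl⟩ ?_
      simp only [Preadditive.add_comp, Category.assoc, htBB, htAB, Category.comp_id, comp_zero, zero_add]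
      exact hbB Ω ξ ⟨⟨_, hξ⟩, hm, rfl⟩

/-- degree zero classes on an intersection split, given the topological splitting of functions -/
theorem exists_split_hom [Finite M] {T₁ T₂ T₁₂ : Closeds X} (h₁ : T₁₂ ≤ T₁) (h₂ : T₁₂ ≤ T₂)
    (hsplit : ∀ g : T₁₂ → M, IsLocallyConstant g → ∃ (f₁ : T₁ → M) (f₂ : T₂ → M), IsLocallyConstant f₁ ∧
      IsLocallyConstant f₂ ∧ ∀ x : T₁₂, g x = f₁ ⟨x, h₁ x.2⟩ - f₂ ⟨x, h₂ x.2⟩)
    (b : EtCoh.const X ℤ ⟶ quotSheaf (EtCoh.const X M) T₁₂) :
    ∃ (b₁ : EtCoh.const X ℤ ⟶ quotSheaf (EtCoh.const X M) T₁) (b₂ : EtCoh.const X ℤ ⟶ quotSheaf (EtCoh.const X M) T₂),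
      b = b₁ ≫ quotMap _ h₁ - b₂ ≫ quotMap _ h₂ := by
  classical
  letI := Fintype.ofFinite M
  have hpt : ∀ x : T₁₂, ∃ m, ∀ (Ω : Type u) [Field Ω] [IsSepClosed Ω] (ξ : Spec (CommRingCat.of Ω) ⟶ X),
      ξ.base (default : Spec (CommRingCat.of Ω)) = x.1 → Val b ξ m := fun x => by
    obtain ⟨k, _, _, ζ, z, hz⟩ := exists_algClosed_point (EtCoh.top X) x.1
    have hzζ : (z.left : Spec (CommRingCat.of k) ⟶ X) = ζ := (Category.comp_id _).symm.trans (CategoryTheory.Over.w z)
    have hζ : ζ.base (default : Spec (CommRingCat.of k)) = x.1 :=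
      (congrArg (fun a : Spec (CommRingCat.of k) ⟶ X => a.base (default : Spec (CommRingCat.of k))) hzζ.symm).trans hz
    obtain ⟨m, hm, -⟩ := existsUnique_val b ζ (by rw [hζ]; exact x.2)
    obtain ⟨U, -, hU, hUv⟩ := exists_open_val b hm
    exact ⟨m, fun Ω _ _ ξ hξ => hUv Ω ξ (by rw [hξ, ← hζ]; exact hU)⟩
  choose g hg using hpt
  have hlc : IsLocallyConstant g := (IsLocallyConstant.iff_exists_open _).2 fun x => by
    obtain ⟨k, _, _, ζ, z, hz⟩ := exists_algClosed_point (EtCoh.top X) x.1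
    have hzζ : (z.left : Spec (CommRingCat.of k) ⟶ X) = ζ := (Category.comp_id _).symm.trans (CategoryTheory.Over.w z)
    have hζ : ζ.base (default : Spec (CommRingCat.of k)) = x.1 :=
      (congrArg (fun a : Spec (CommRingCat.of k) ⟶ X => a.base (default : Spec (CommRingCat.of k))) hzζ.symm).trans hz
    obtain ⟨U, hU, hxU, hUv⟩ := exists_open_val b (hg x k ζ hζ)
    refine ⟨Subtype.val ⁻¹' U, hU.preimage continuous_subtype_val, show x.1 ∈ U from hζ ▸ hxU, fun y hy => ?_⟩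
    obtain ⟨k', _, _, ζ', z', hz'⟩ := exists_algClosed_point (EtCoh.top X) y.1
    have hzζ' : (z'.left : Spec (CommRingCat.of k') ⟶ X) = ζ' :=
      (Category.comp_id _).symm.trans (CategoryTheory.Over.w z')
    have hζ' : ζ'.base (default : Spec (CommRingCat.of k')) = y.1 :=
      (congrArg (fun a : Spec (CommRingCat.of k') ⟶ X => a.base (default : Spec (CommRingCat.of k'))) hzζ'.symm).trans hz'
    have hmem : ζ'.base (default : Spec (CommRingCat.of k')) ∈ T₁₂ := by rw [hζ']; exact y.2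
    exact (existsUnique_val b ζ' hmem).unique (hg y k' ζ' hζ') (hUv k' ζ' (by rw [hζ']; exact hy))
  obtain ⟨f₁, f₂, hf₁, hf₂, hf⟩ := hsplit g hlc
  obtain ⟨b₁, hb₁⟩ := exists_hom_val Finset.univ T₁ f₁ hf₁ fun _ => Finset.mem_univ _
  obtain ⟨b₂, hb₂⟩ := exists_hom_val Finset.univ T₂ f₂ hf₂ fun _ => Finset.mem_univ _
  refine ⟨b₁, b₂, hom_ext_of_val fun Ω _ _ ξ hξ => ⟨g ⟨_, hξ⟩, hg ⟨_, hξ⟩ Ω ξ rfl, ?_⟩⟩
  rw [hf]
  exact ((hb₁ Ω ξ (h₁ hξ)).restrict h₁).sub ((hb₂ Ω ξ (h₂ hξ)).restrict h₂)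

end Groth.Agent.EtAICLib
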