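import Groth.Agent.EtAICLib.Fibre
import Groth.Agent.CdDim.Main
import Groth.Agent.Hensel.TensorHenzFinite
import Groth.Agent.EtTorLib.PushColim

/-!
# Invariance of the cohomology of closed subschemes under good surjective maps
-/

set_option autoImplicit false
set_option linter.style.haveILetI false
set_option backward.isDefEq.respectTransparency false
set_option backward.isDefEq.respectTransparency.types false
set_option maxHeartbeats 2000000

universe u

open CategoryTheory CategoryTheory.Limits AlgebraicGeometry Opposite TopologicalSpace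

namespace Groth.Agent.EtAICLib

variable {P Z Y Y' : Scheme.{u}} [IsIntegral Y] [IsIntegral Y'] {p : P ⟶ Z} [IsProper p] {b : Y ⟶ Z}
  (g : Y' ⟶ pullback p b) [IsIntegralHom g] [IsDominant (g ≫ pullback.snd p b)]
  {Y₀ : Scheme.{u}} (j : Y₀ ⟶ Y) [IsClosedImmersion j]

theorem isSepClosed_residueField_closed {Y₀ : Scheme.{u}} (j : Y₀ ⟶ Y) [IsClosedImmersion j] (hY : AICS Y) (y₀ : Y₀) :
    IsSepClosed (Y₀.residueField y₀) :=
  (EtTorLib.isStrictlyHenselian_of_surjective (j.stalkMap y₀).hom (j.stalkMap_surjective y₀)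
    (hY.isStrictlyHenselian _)).2

/-- the closed part of a good morphism has no higher direct images of constant sheaves -/
theorem subsingleton_H_strict_fibre (hp : Good p) (hY : AICS Y) (hY' : AICS Y') (M : Type) [AddCommGroup M]
    [Finite M] (y₀ : Y₀) (q : ℕ) (hq : 0 < q) :
    Subsingleton (EtCoh.H (pullback (pullback.snd (g ≫ pullback.snd p b) j) (Y₀.fromSpecStalk y₀))
      (EtCoh.const _ M) q) := by
  let π := g ≫ pullback.snd p b
  let y := j y₀
  let k := Y.fromSpecStalk y
  let m : Spec (Y₀.presheaf.stalk y₀) ⟶ Spec (Y.presheaf.stalk y) := Spec.map (j.stalkMap y₀)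
  haveI : IsClosedImmersion m := IsClosedImmersion.spec_of_surjective _ (j.stalkMap_surjective y₀)
  haveI : HenselianLocalRing (Y.presheaf.stalk y) := (hY.isStrictlyHenselian y).1
  let J : Ideal (Y.presheaf.stalk y) := RingHom.ker (j.stalkMap y₀).hom
  haveI : HenselianRing (Y.presheaf.stalk y) J := henselianRing_of_ne_top (RingHom.ker_ne_top _)
  haveI : IsIntegral (pullback π k) := isIntegral_localPart π y
  obtain ⟨g', hg', hg''⟩ := isIntegralHom_localMap y g
  have hV : Vanish J (pullback.snd π k) :=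
    haveI := hg'
    hp.vanish (Y.presheaf.stalk y) J (k ≫ b) (hY'.localPart y) _ g' hg''
  let ε : pullback (pullback.snd π j) (Y₀.fromSpecStalk y₀) ≅ pullback (pullback.snd π k) m :=
    pullbackLeftPullbackSndIso π j _ ≪≫
      pullback.congrHom rfl (Scheme.SpecMap_stalkMap_fromSpecStalk j).symm ≪≫
      (pullbackLeftPullbackSndIso π k m).symm
  let jW := ε.hom ≫ pullback.fst (pullback.snd π k) m
  have hr : Set.range jW.base = EtH0Lib.Zof (pullback.snd π k) J := by
    show Set.range (ε.hom ≫ pullback.fst (pullback.snd π k) m).base = _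
    rw [Scheme.Hom.comp_base, TopCat.coe_comp,
      Set.range_comp, Set.range_eq_univ.2 ε.hom.surjective, Set.image_univ,
      show Set.range (pullback.fst (pullback.snd π k) m).base = _ from Scheme.Pullback.range_fst _ _]
    refine congrArg ((pullback.snd π k).base ⁻¹' ·) ?_
    exact range_comap_of_surjective _ _ (j.stalkMap_surjective y₀)
  exact hV M _ jW hr q hq

theorem isZero_Rpush_closedPart (hp : Good p) (hY : AICS Y) (hY' : AICS Y') (M : Type) [AddCommGroup M] [Finite M]
    (q : ℕ) (hq : 0 < q) :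
    IsZero ((EtCoh.Rpush (pullback.snd (g ≫ pullback.snd p b) j) q).obj
      (EtCoh.const (pullback (g ≫ pullback.snd p b) j) M)) := by
  let π₀ := pullback.snd (g ≫ pullback.snd p b) j
  let A := (EtCoh.Rpush π₀ q).obj (EtCoh.const (pullback (g ≫ pullback.snd p b) j) M)
  refine (EtFound.isZero_iff_stalks A).2 fun Ω _ _ ξ => ?_
  let y₀ := ξ.base (default : Spec (CommRingCat.of Ω))
  let R : Type u := (Y₀.presheaf.stalk y₀ : Type u)
  have hR : EtCoh.IsStrictlyHenselianLocalRing (Y₀.presheaf.stalk y₀) :=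
    EtTorLib.isStrictlyHenselian_of_surjective (j.stalkMap y₀).hom (j.stalkMap_surjective y₀)
      (hY.isStrictlyHenselian _)
  haveI : IsLocalHom (algebraMap (Y₀.presheaf.stalk y₀) (Y₀.presheaf.stalk y₀)) := ⟨fun _ hu => hu⟩
  haveI : IsSepClosed (IsLocalRing.ResidueField (Y₀.presheaf.stalk y₀)) := hR.2
  haveI : Hensel.IsStrictHenselization (Y₀.presheaf.stalk y₀) (Y₀.presheaf.stalk y₀) :=
    Hensel.isStrictHenselization_self _ hR.1 hR.2
  have hs : Hens2.specOf Y₀ y₀ (Y₀.presheaf.stalk y₀) = Y₀.fromSpecStalk y₀ := by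
    show Spec.map (CommRingCat.ofHom (algebraMap (Y₀.presheaf.stalk y₀) (Y₀.presheaf.stalk y₀))) ≫ _ = _
    rw [Algebra.algebraMap_self, CommRingCat.ofHom_id, Spec.map_id]
    exact Category.id_comp _
  obtain ⟨e⟩ := S0620.result π₀ (EtCoh.const _ M) y₀ (Y₀.presheaf.stalk y₀) q
  haveI hz : Subsingleton (EtCoh.H (pullback π₀ (Hens2.specOf Y₀ y₀ (Y₀.presheaf.stalk y₀)))
      ((EtCoh.pull (pullback.fst π₀ (Hens2.specOf Y₀ y₀ (Y₀.presheaf.stalk y₀)))).obj (EtCoh.const _ M)) q) := by
    have := subsingleton_H_strict_fibre g j hp hY hY' M y₀ q hq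
    rw [← hs] at this
    exact @Equiv.subsingleton _ _ ((Abelian.extFunctorObj _ q).mapIso
      (EtCore.pullConst (pullback.fst π₀ (Hens2.specOf Y₀ y₀ (Y₀.presheaf.stalk y₀))) M)).addCommGroupIsoToAddEquiv.toEquiv this
  have h0 : IsZero ((EtCoh.stalk (Hens2.geomPt Y₀ y₀ (Y₀.presheaf.stalk y₀))).obj A) :=
    (AddCommGrpCat.isZero_of_subsingleton _).of_iso e
  have hpull : IsZero ((EtCoh.pull (Hens2.geomPt Y₀ y₀ (Y₀.presheaf.stalk y₀))).obj A) :=
    (EtFound.isZero_iff_stalks _).2 fun Ω _ _ z =>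
      (h0.of_iso ((EtFound.stalkExtIso AddCommGrpCat.{u + 1} (Hens2.geomPt Y₀ y₀ (Y₀.presheaf.stalk y₀)) z).app A).symm).of_iso
        ((EtFound.sheafFiberPullIso (A := AddCommGrpCat.{u + 1}) (Hens2.geomPt Y₀ y₀ (Y₀.presheaf.stalk y₀)) z).app A)
  exact CurveCd.isZero_stalk_of_pull _ A hpull ξ ⟨_, CdDim.geomPt_apply y₀ (Y₀.presheaf.stalk y₀)⟩

/-- the cohomology of a closed subscheme and of its preimage agree -/
theorem nonempty_H_closedPart (hp : Good p) (hY : AICS Y) (hY' : AICS Y') (M : Type) [AddCommGroup M] [Finite M]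
    (q : ℕ) :
    Nonempty (EtCoh.H Y₀ (EtCoh.const Y₀ M) q ≃+
      EtCoh.H (pullback (g ≫ pullback.snd p b) j) (EtCoh.const (pullback (g ≫ pullback.snd p b) j) M) q) := by
  let π₀ := pullback.snd (g ≫ pullback.snd p b) j
  haveI := EtFound.pull_preservesFiniteLimits π₀
  haveI : IsIso ((EtCoh.pullPushAdj π₀).unit.app (EtCoh.const Y₀ M)) :=
    EtTorLib.isIso_unit_of_connectedNear π₀ M (connectedNear_of_fibres π₀ (isSepClosed_residueField_closed j hY)
      fun y => isConnected_preimage_closed _ j (isConnected_preimage_singleton hY g inferInstance) y)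
  have hR : ∀ i, 0 < i → IsZero ((EtCoh.Rpush π₀ i).obj ((EtCoh.pull π₀).obj (EtCoh.const Y₀ M))) := fun i hi =>
    (isZero_Rpush_closedPart g j hp hY hY' M i hi).of_iso ((EtCoh.Rpush π₀ i).mapIso (EtCore.pullConst π₀ M))
  exact ⟨(((EtCoh.HF Y₀ q).mapIso (asIso ((EtCoh.pullPushAdj π₀).unit.app (EtCoh.const Y₀ M)))).addCommGroupIsoToAddEquiv.trans
    ((AddEquiv.ofBijective (EtLim.HofPush π₀ ((EtCoh.pull π₀).obj (EtCoh.const Y₀ M)) q)
      (BigSiteLib.hofPush_bijective π₀ _ hR q)))).trans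
      ((Abelian.extFunctorObj _ q).mapIso (EtCore.pullConst π₀ M)).addCommGroupIsoToAddEquiv⟩

/-- vanishing descends along good surjective maps -/
theorem vanish_descend (hp : Good p) (hY : AICS Y) (hY' : AICS Y') {B : Type u} [CommRing B] (J : Ideal B)
    (h : Y ⟶ Spec (CommRingCat.of B)) (hV : Vanish J ((g ≫ pullback.snd p b) ≫ h)) : Vanish J h :=
  fun M _ _ Y₀ j _ hr q hq => by
    obtain ⟨e⟩ := nonempty_H_closedPart g j hp hY hY' M q
    haveI := hV M _ (pullback.fst (g ≫ pullback.snd p b) j) (by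
      rw [show Set.range (pullback.fst (g ≫ pullback.snd p b) j).base = _ from Scheme.Pullback.range_fst _ _, hr]
      exact Set.preimage_preimage) q hq
    exact e.toEquiv.subsingleton

/-- vanishing ascends along good surjective maps -/
theorem vanish_ascend (hp : Good p) (hY : AICS Y) (hY' : AICS Y') {B : Type u} [CommRing B] (J : Ideal B)
    (h : Y ⟶ Spec (CommRingCat.of B)) (hV : Vanish J h) : Vanish J ((g ≫ pullback.snd p b) ≫ h) := by
  let T : Closeds Y := ⟨EtH0Lib.Zof h J, EtH0Lib.isClosed_Zof h J⟩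
  let j := EtTorLib.redSubι T
  refine vanish_of_one J _ (pullback.fst (g ≫ pullback.snd p b) j) ?_ fun M _ _ q hq => ?_
  · rw [show Set.range (pullback.fst (g ≫ pullback.snd p b) j).base = _ from Scheme.Pullback.range_fst _ _,
      EtTorLib.range_redSubι]
    exact Set.preimage_preimage
  · obtain ⟨e⟩ := nonempty_H_closedPart g j hp hY hY' M q
    haveI := hV M _ j (EtTorLib.range_redSubι T) q hq
    exact e.symm.toEquiv.subsingleton

end Groth.Agent.EtAICLib
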