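import Groth.Agent.EtAICLib.Good
import Groth.Agent.EtTorLib.ConstPush
import Groth.Agent.S4366
import Groth.Agent.DescLib.EtaleFibre
import Groth.Agent.Hensel.PairBasic
import Groth.Agent.Hensel.Local
import Groth.Agent.S0090
import Mathlib.AlgebraicGeometry.Morphisms.Proper

/-!
# Localisation of absolutely integrally closed schemes over a point of the base
-/

set_option autoImplicit false
set_option linter.style.haveILetI false
set_option backward.isDefEq.respectTransparency false
set_option backward.isDefEq.respectTransparency.types false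
set_option maxHeartbeats 1000000

universe u

open CategoryTheory CategoryTheory.Limits AlgebraicGeometry Opposite TopologicalSpace

namespace Groth.Agent.EtAICLib

theorem AICS.isStrictlyHenselian {Y : Scheme.{u}} [IsIntegral Y] (h : AICS Y) (y : Y) :
    EtCoh.IsStrictlyHenselianLocalRing (Y.presheaf.stalk y) :=
  haveI := h.isSepClosed_functionField
  S0090.result Y h.isIntegrallyClosed y

theorem henselianRing_of_ne_top {B : Type u} [CommRing B] [HenselianLocalRing B] {J : Ideal B} (hJ : J ≠ ⊤) :
    HenselianRing B J :=
  haveI := (Hensel.henselianRing_maximalIdeal_iff B).2 inferInstance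
  Hensel.henselianRing_of_le (IsLocalRing.le_maximalIdeal hJ)

variable {Y Y' : Scheme.{u}} [IsIntegral Y'] (π : Y' ⟶ Y) [IsDominant π] (y : Y)

/-- the part of an integral scheme over a local scheme of the base is integral -/
theorem isIntegral_localPart [QuasiCompact π] [UniversallyClosed π] : IsIntegral (pullback π (Y.fromSpecStalk y)) := by
  let W := pullback π (Y.fromSpecStalk y)
  let φ : W ⟶ Y' := pullback.fst π (Y.fromSpecStalk y)
  haveI : IsPreimmersion φ := MorphismProperty.pullback_fst _ _ inferInstance
  have hφ : Set.range φ.base = π.base ⁻¹' {z | z ⤳ y} := by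
    rw [show Set.range φ.base = _ from Scheme.Pullback.range_fst _ _, Scheme.range_fromSpecStalk]
  haveI : IsReduced W := by
    haveI : ∀ w : W, _root_.IsReduced (W.presheaf.stalk w) := fun w => by
      haveI := S4366.result π y w
      exact isReduced_of_injective (inv (φ.stalkMap w)).hom
        (ConcreteCategory.bijective_of_isIso (inv (φ.stalkMap w))).1
    exact isReduced_of_isReduced_stalk W
  haveI : Surjective π := ⟨fun z =>
    (π.isClosedMap.isClosed_range.closure_eq.symm.trans π.denseRange.closure_range).ge (Set.mem_univ z)⟩
  obtain ⟨w₀, hw₀⟩ : genericPoint Y' ∈ Set.range φ.base := by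
    rw [hφ]
    obtain ⟨x, rfl⟩ := π.surjective y
    exact ((genericPoint_spec Y').specializes (Set.mem_univ x)).map π.continuous
  have hw : ∀ w : W, w₀ ⤳ w := fun w => φ.isEmbedding.isInducing.specializes_iff.1
    (hw₀ ▸ (genericPoint_spec Y').specializes (Set.mem_univ _))
  haveI : IrreducibleSpace W := by
    refine irreducibleSpace_def W |>.2 ?_
    convert (isIrreducible_singleton (x := w₀)).closure using 1
    exact (Set.eq_univ_of_forall fun w => (hw w).mem_closure).symm
  exact isIntegral_of_irreducibleSpace_of_isReduced _

variable {π}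

omit [IsIntegral Y'] in
theorem AICS.localPart (h : AICS Y') : AICS (pullback π (Y.fromSpecStalk y)) :=
  haveI : IsPreimmersion (pullback.fst π (Y.fromSpecStalk y)) := MorphismProperty.pullback_fst _ _ inferInstance
  h.of_isPreimmersion (pullback.fst π (Y.fromSpecStalk y))

omit [IsIntegral Y'] in
/-- the map of the local part to the localised product is a base change -/
theorem isIntegralHom_localMap {P Z : Scheme.{u}} {p : P ⟶ Z} {b : Y ⟶ Z} (g : Y' ⟶ pullback p b) [IsIntegralHom g] :
    ∃ g' : pullback (g ≫ pullback.snd p b) (Y.fromSpecStalk y) ⟶ pullback p (Y.fromSpecStalk y ≫ b),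
      IsIntegralHom g' ∧ g' ≫ pullback.snd p (Y.fromSpecStalk y ≫ b) = pullback.snd _ _ := by
  let k := Y.fromSpecStalk y
  let m : pullback (g ≫ pullback.snd p b) k ⟶ pullback (pullback.snd p b) k :=
    pullback.map _ _ _ _ g (𝟙 _) (𝟙 _) (by simp) (by simp)
  have sq : IsPullback (pullback.fst (g ≫ pullback.snd p b) k) m g (pullback.fst (pullback.snd p b) k) := by
    refine IsPullback.of_bot ?_ (by simp [m]) (IsPullback.of_hasPullback (pullback.snd p b) k)
    convert IsPullback.of_hasPullback (g ≫ pullback.snd p b) k using 1
    simp [m]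
  haveI : IsIntegralHom m := MorphismProperty.of_isPullback sq inferInstance
  refine ⟨m ≫ (pullbackLeftPullbackSndIso p b k).hom, inferInstance, ?_⟩
  simp [m, k]

end Groth.Agent.EtAICLib
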