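import Groth.Agent.EtAICLib.AffineMV
import Groth.Agent.EtAICLib.DegreeOne
import Groth.Agent.H23.P1Charts
import Groth.Agent.PnCoh.Chow.Proper

/-!
# The projective line is good
-/

set_option autoImplicit false
set_option linter.style.haveILetI false
set_option backward.isDefEq.respectTransparency false
set_option backward.isDefEq.respectTransparency.types false
set_option maxHeartbeats 2000000

universe u

open CategoryTheory CategoryTheory.Limits AlgebraicGeometry Opposite TopologicalSpace

namespace Groth.Agent.EtAICLib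

open H23.P1Charts (Z chartZ)

theorem good_projLine : Good (CohB1.ProjSpace.toSpec.{u} 1 Z.{u}) := by
  intro B _ J _ b Y _ hY g hg
  haveI := hg
  haveI : IsProper (CohB1.ProjSpace.toSpec.{u} 1 Z.{u}) := PnCoh.Chow.isProper_toSpec _ _
  let h := g ≫ pullback.snd (CohB1.ProjSpace.toSpec 1 Z.{u}) b
  let i := Spec.map (CommRingCat.ofHom (Ideal.Quotient.mk J))
  haveI : IsClosedImmersion i := IsClosedImmersion.spec_of_surjective _ Ideal.Quotient.mk_surjective
  refine vanish_of_one J h (pullback.fst h i) (EtH0Lib.range_fst_mk' J h) fun M _ _ q hq => ?_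
  rcases (show q = 1 ∨ 2 ≤ q by omega) with rfl | hq₂
  · exact subsingleton_H1_closedPart J hY g (pullback.snd _ b) M
  haveI : IsAffineHom (pullback.fst (CohB1.ProjSpace.toSpec 1 Z.{u}) b) :=
    MorphismProperty.pullback_fst _ _ (isAffineHom_of_isAffine b)
  let r : Y ⟶ CohB1.ProjSpace 1 Z.{u} := g ≫ pullback.fst _ b
  let U : Fin (1 + 1) → Y.Opens := fun a => r ⁻¹ᵁ (chartZ.{u} a).opensRange
  have hU : ∀ a, IsAffineOpen (U a) := fun a => (isAffineOpen_opensRange (chartZ.{u} a)).preimage r
  have hUV : U 0 ⊔ U 1 = ⊤ := by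
    have e := congrArg (r ⁻¹ᵁ ·) H23.P1Charts.iSup_chartZ.{u}
    simp only [Scheme.Hom.preimage_top, Scheme.Hom.preimage_iSup] at e
    rw [← e]
    refine le_antisymm (sup_le (le_iSup U 0) (le_iSup U 1)) (iSup_le fun a => ?_)
    fin_cases a
    · exact le_sup_left
    · exact le_sup_right
  haveI : IsSeparated h := inferInstance
  haveI : Y.IsSeparated := ⟨by
    rw [show terminal.from Y = h ≫ terminal.from (Spec (CommRingCat.of B)) from (terminal.hom_ext _ _)]
    infer_instance⟩
  exact subsingleton_H_two_affines hY (pullback.fst h i) M (U 0) (U 1) (hU 0) (hU 1) hUV ((hU 0).inf (hU 1)) q hq₂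

end Groth.Agent.EtAICLib
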