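import Groth.Agent.EtAICLib.UnitLift
import Mathlib.RingTheory.Idempotents
import Mathlib.RingTheory.Ideal.Operations
import Mathlib.GroupTheory.SpecificGroups.Cyclic
import Mathlib.GroupTheory.Perm.Cycle.Type
import Mathlib.RingTheory.Polynomial.Quotient
import Mathlib.RingTheory.Spectrum.Prime.RingHom

/-!
# Locally constant functions on intersections of closed subsets of spectra of AIC rings
-/

set_option autoImplicit false
set_option linter.style.haveILetI false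
universe u

open Polynomial TopologicalSpace

namespace Groth.Agent.EtAICLib

variable {R : Type u} [CommRing R]

/-- A locally constant function with finitely many values on a closed subset of a spectrum is
realised by idempotents modulo the ideal. -/
theorem exists_idempotents {ι : Type} [Fintype ι] (J : Ideal R)
    (g : PrimeSpectrum.zeroLocus (J : Set R) → ι) (hg : IsLocallyConstant g) :
    ∃ e : ι → R ⧸ J, CompleteOrthogonalIdempotents e ∧
      ∀ (x : PrimeSpectrum.zeroLocus (J : Set R)) (k : ι) (r : R), Ideal.Quotient.mk J r = e k →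
        (k = g x → 1 - r ∈ x.1.asIdeal) ∧ (k ≠ g x → r ∈ x.1.asIdeal) := by
  classical
  let π := PrimeSpectrum.comap (Ideal.Quotient.mk J)
  have hπ : ∀ z, π z ∈ PrimeSpectrum.zeroLocus (J : Set R) := fun z r hr => by
    show Ideal.Quotient.mk J r ∈ z.asIdeal
    rw [Ideal.Quotient.eq_zero_iff_mem.2 hr]
    exact z.asIdeal.zero_mem
  let G : PrimeSpectrum (R ⧸ J) → ι := fun z => g ⟨π z, hπ z⟩
  have hG : IsLocallyConstant G :=
    hg.comp_continuous ((PrimeSpectrum.continuous_comap _).subtype_mk hπ)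
  choose e he hek using fun k => PrimeSpectrum.exists_idempotent_basicOpen_eq_of_isClopen
    (hG.isClopen_fiber k)
  have hmem : ∀ z k, e k ∉ z.asIdeal ↔ G z = k := fun z k =>
    (Iff.of_eq (congrArg (z ∈ ·) (hek k))).symm
  have heq : ∀ k, IsIdempotentElem (e k) := he
  have horth : ∀ i j, i ≠ j → e i * e j = 0 := fun i j h => by
    refine IsIdempotentElem.eq_zero_of_isNilpotent ((heq i).mul (heq j)) ?_
    rw [← mem_nilradical, nilradical_eq_sInf]
    refine (Submodule.mem_sInf).2 fun (P : Ideal (R ⧸ J)) (hP : P.IsPrime) => ?_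
    by_contra hP'
    exact h (((hmem ⟨P, hP⟩ i).1 fun h' => hP' (P.mul_mem_right _ h')).symm.trans
      ((hmem ⟨P, hP⟩ j).1 fun h' => hP' (P.mul_mem_left _ h')))
  have hval : ∀ (z : PrimeSpectrum (R ⧸ J)) k, (k = G z → 1 - e k ∈ z.asIdeal) ∧ (k ≠ G z → e k ∈ z.asIdeal) := by
    intro z k
    have h0 : e k * (1 - e k) ∈ z.asIdeal := by
      rw [mul_sub, mul_one, (heq k).eq, sub_self]
      exact z.asIdeal.zero_mem
    exact ⟨fun h => (z.isPrime.mem_or_mem h0).resolve_left ((hmem z k).2 h.symm),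
      fun h => by_contra fun h' => h ((hmem z k).1 h').symm⟩
  have ho : OrthogonalIdempotents e := ⟨heq, fun i j h => horth i j h⟩
  have hcomp : ∑ i, e i = 1 := by
    refine (sub_eq_zero.1 (IsIdempotentElem.eq_zero_of_isNilpotent (ho.isIdempotentElem_sum).one_sub ?_)).symm
    rw [← mem_nilradical, nilradical_eq_sInf]
    refine (Submodule.mem_sInf).2 fun (P : Ideal (R ⧸ J)) (hP : P.IsPrime) => ?_
    rw [← Finset.add_sum_erase _ _ (Finset.mem_univ (G ⟨P, hP⟩)), ← sub_sub]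
    exact P.sub_mem ((hval ⟨P, hP⟩ _).1 rfl) (P.sum_mem fun j hj => (hval ⟨P, hP⟩ j).2 (Finset.ne_of_mem_erase hj))
  refine ⟨e, ⟨ho, hcomp⟩, fun x k r hr => ?_⟩
  · obtain ⟨z, hz⟩ : x.1 ∈ Set.range π := by
      rw [range_comap_of_surjective _ _ Ideal.Quotient.mk_surjective, Ideal.mk_ker]
      exact x.2
    have hzG : G z = g x := congrArg g (Subtype.ext hz)
    rw [← hz, ← hzG]
    refine ⟨fun h => ?_, fun h => ?_⟩
    · show Ideal.Quotient.mk J (1 - r) ∈ z.asIdeal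
      rw [map_sub, map_one, hr]
      exact (hval z k).1 h
    · show Ideal.Quotient.mk J r ∈ z.asIdeal
      rw [hr]
      exact (hval z k).2 h

/-- a root of a product of linear factors with pairwise unit differences selects a factor
locally constantly -/
theorem exists_select {ι : Type} [Fintype ι] (a : ι → R) (ha : ∀ i j, i ≠ j → IsUnit (a i - a j))
    (r : R) (I : Ideal R) (hr : ∏ i, (r - a i) ∈ I) :
    ∃ h : PrimeSpectrum.zeroLocus (I : Set R) → ι, IsLocallyConstant h ∧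
      ∀ x, r - a (h x) ∈ x.1.asIdeal := by
  have hex : ∀ x : PrimeSpectrum.zeroLocus (I : Set R), ∃ i, r - a i ∈ x.1.asIdeal := fun x => by
    obtain ⟨i, -, hi⟩ := (Ideal.IsPrime.prod_mem_iff (hp := x.1.isPrime)).1 (x.2 hr)
    exact ⟨i, hi⟩
  choose h hh using hex
  refine ⟨h, IsLocallyConstant.iff_isOpen_fiber.2 fun i => ?_, hh⟩
  have huniq : ∀ x i, h x = i ↔ r - a i ∈ x.1.asIdeal := fun x i => by
    refine ⟨fun e => e ▸ hh x, fun hi => by_contra fun hne => ?_⟩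
    refine x.1.isPrime.ne_top (Ideal.eq_top_of_isUnit_mem _ ?_ (ha _ _ hne))
    convert x.1.asIdeal.sub_mem hi (hh x) using 1
    ring
  have hset : h ⁻¹' {i} = (⋃ j ∈ ({j | j ≠ i} : Set ι),
      Subtype.val ⁻¹' PrimeSpectrum.zeroLocus {r - a j})ᶜ := by
    ext x
    simp only [Set.mem_preimage, Set.mem_singleton_iff, Set.mem_compl_iff, Set.mem_iUnion,
      PrimeSpectrum.mem_zeroLocus, Set.singleton_subset_iff, SetLike.mem_coe, Set.mem_setOf_eq, ← huniq]
    exact ⟨fun e ⟨j, hj, hj'⟩ => hj (hj'.symm.trans e), fun h' => by_contra fun hne => h' ⟨h x, hne, rfl⟩⟩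
  rw [hset, isOpen_compl_iff]
  exact Set.Finite.isClosed_biUnion (Set.toFinite _) fun j _ =>
    (PrimeSpectrum.isClosed_zeroLocus _).preimage continuous_subtype_val

theorem exists_add_eq_of_map_eq {I₁ I₂ : Ideal R} {F : R[X]} (hF : F.map (Ideal.Quotient.mk (I₁ ⊔ I₂)) = 0)
    {G : R[X]} (hG : G.Monic) (hd : F.degree < G.degree) :
    ∃ q₁ q₂ : R[X], q₁ + q₂ = F ∧ q₁.degree < G.degree ∧ q₁.map (Ideal.Quotient.mk I₁) = 0 ∧
      q₂.map (Ideal.Quotient.mk I₂) = 0 := by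
  rcases subsingleton_or_nontrivial R with h | h
  · exact absurd hd (by simp [Subsingleton.elim F 0, Subsingleton.elim G 0])
  have hc : ∀ n, F.coeff n ∈ I₁ ⊔ I₂ := fun n => by
    rw [← Ideal.Quotient.eq_zero_iff_mem, ← coeff_map, hF, coeff_zero]
  have hm : F ∈ Ideal.map C I₁ ⊔ Ideal.map C I₂ := by
    rw [← Ideal.map_sup, Ideal.mem_map_C_iff]
    exact hc
  obtain ⟨q₁, hq₁, q₂, hq₂, e⟩ := Submodule.mem_sup.1 hm
  have hz : ∀ (I : Ideal R) (q : R[X]), q ∈ Ideal.map C I → (q %ₘ G).map (Ideal.Quotient.mk I) = 0 := by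
    intro I q hq
    have : q.map (Ideal.Quotient.mk I) = 0 := Polynomial.ext fun n => by
      rw [coeff_map, coeff_zero, Ideal.Quotient.eq_zero_iff_mem]
      exact Ideal.mem_map_C_iff.1 hq n
    rw [map_modByMonic _ hG, this, zero_modByMonic]
  refine ⟨q₁ %ₘ G, q₂ %ₘ G, ?_, degree_modByMonic_lt _ hG, hz _ _ hq₁, hz _ _ hq₂⟩
  rw [← add_modByMonic, e, (modByMonic_eq_self_iff hG).2 hd]

/-- Every `ZMod p`-valued locally constant function on the intersection of two closed subsets of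
the spectrum of an absolutely integrally closed ring is a difference. -/
theorem exists_split_zmod (hR : Curves.IsAIC R) (p : ℕ) [hp : Fact p.Prime] (I₁ I₂ : Ideal R)
    (g : PrimeSpectrum.zeroLocus ((I₁ ⊔ I₂ : Ideal R) : Set R) → ZMod p) (hg : IsLocallyConstant g) :
    ∃ (h₁ : PrimeSpectrum.zeroLocus (I₁ : Set R) → ZMod p) (h₂ : PrimeSpectrum.zeroLocus (I₂ : Set R) → ZMod p),
      IsLocallyConstant h₁ ∧ IsLocallyConstant h₂ ∧
      ∀ (x : PrimeSpectrum R) (hx : x ∈ PrimeSpectrum.zeroLocus ((I₁ ⊔ I₂ : Ideal R) : Set R))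
        (hx₁ : x ∈ PrimeSpectrum.zeroLocus (I₁ : Set R)) (hx₂ : x ∈ PrimeSpectrum.zeroLocus (I₂ : Set R)),
        g ⟨x, hx⟩ = h₁ ⟨x, hx₁⟩ - h₂ ⟨x, hx₂⟩ := by
  classical
  rcases subsingleton_or_nontrivial R with hsub | hnt
  · haveI : IsEmpty (PrimeSpectrum R) :=
      ⟨fun x => x.isPrime.ne_top ((Ideal.eq_top_iff_one _).2 (Subsingleton.elim (0 : R) 1 ▸ x.asIdeal.zero_mem))⟩
    exact ⟨fun _ => 0, fun _ => 0, IsLocallyConstant.const _, IsLocallyConstant.const _, fun x => isEmptyElim x⟩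
  obtain ⟨ζ, hζ⟩ : ∃ ζ : R, ∑ j ∈ Finset.range p, ζ ^ j = 0 := by
    obtain ⟨ζ, hζ⟩ := hR (cyclotomic p R) (cyclotomic.monic p R)
      (by rw [natDegree_cyclotomic]; exact Nat.totient_pos.2 hp.out.pos)
    exact ⟨ζ, by simpa [cyclotomic_prime, eval_finsetSum] using hζ⟩
  have hz : ζ ^ p = 1 := by
    have := geom_sum_mul ζ p
    rw [hζ, zero_mul] at this
    exact (sub_eq_zero.1 this.symm)
  let a : ZMod p → R := geo p ζ
  obtain ⟨e, he, hev⟩ := exists_idempotents (I₁ ⊔ I₂) g hg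
  let mkJ := Ideal.Quotient.mk (I₁ ⊔ I₂)
  choose ε hε using fun k => Ideal.Quotient.mk_surjective (I := I₁ ⊔ I₂) (e k)
  obtain ⟨ω, hω⟩ : ∃ ω : R, ω = ∑ k, ε k * ζ ^ k.val := ⟨_, rfl⟩
  obtain ⟨β, hβ⟩ : ∃ β : R, β = ∑ k, ε k * a k := ⟨_, rfl⟩
  have hhe : CompleteOrthogonalIdempotents e := he
  have hmul : ∀ u v : ZMod p → R ⧸ (I₁ ⊔ I₂), (∑ k, e k * u k) * (∑ k, e k * v k) = ∑ k, e k * (u k * v k) := by
    intro u v
    rw [Finset.sum_mul_sum]
    refine Finset.sum_congr rfl fun i _ => ?_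
    rw [Finset.sum_eq_single i (fun j _ hj => by
      rw [mul_mul_mul_comm, hhe.ortho hj.symm, zero_mul]) (fun h => absurd (Finset.mem_univ i) h),
      mul_mul_mul_comm, (hhe.idem i).eq]
  have hpow : ∀ (v : ZMod p → R ⧸ (I₁ ⊔ I₂)) (n : ℕ), (∑ k, e k * v k) ^ n = ∑ k, e k * v k ^ n := by
    intro v n
    induction n with
    | zero => simpa using hhe.complete.symm
    | succ n ih =>
      rw [pow_succ, ih, hmul]
      simp [pow_succ]
  have hωJ : mkJ ω = ∑ k, e k * mkJ (ζ ^ k.val) := by simp [mkJ, hω, hε]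
  have hβJ : mkJ β = ∑ k, e k * mkJ (a k) := by simp [mkJ, hβ, hε]
  have hω1 : mkJ (ω ^ p) = 1 := by
    rw [map_pow, hωJ, hpow]
    refine Eq.trans (Finset.sum_congr rfl fun k _ => ?_) hhe.complete
    rw [← map_pow, ← pow_mul, mul_comm k.val, pow_mul, hz, one_pow, map_one, mul_one]
  obtain ⟨y, hy⟩ := exists_unit_lift hR ω hp.out.pos
  let c : ZMod p → R := fun i => (ω + (ω ^ p - 1) * y) * a i + β
  have hau : ∀ i j, i ≠ j → IsUnit (a i - a j) := fun i j h => isUnit_geo_sub hζ hz h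
  have hcu : ∀ i j, i ≠ j → IsUnit (c i - c j) := fun i j h => by
    convert hy.mul (hau i j h) using 1
    simp only [c]; ring
  have hcJ : ∀ i, mkJ (c i) = ∑ k, e k * mkJ (a (i + k)) := by
    intro i
    have h1 : mkJ (a i) = ∑ k, e k * mkJ (a i) := by rw [← Finset.sum_mul, hhe.complete, one_mul]
    simp only [c, map_add, map_mul, map_sub, map_one, hω1, sub_self, zero_mul, add_zero]
    rw [hωJ, h1, hmul, hβJ, ← Finset.sum_add_distrib]
    refine Finset.sum_congr rfl fun k _ => ?_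
    rw [← mul_add, add_comm i k]
    show _ = e k * mkJ (geo p ζ (k + i))
    rw [geo_add hζ hz, map_add, map_mul, add_comm]
  let G₁ : R[X] := ∏ i, (X - C (a i))
  let G₂ : R[X] := ∏ i, (X - C (c i))
  have hG : G₂.map mkJ = G₁.map mkJ := by
    simp only [G₁, G₂, Polynomial.map_prod, Polynomial.map_sub, map_X, map_C, hcJ]
    -- compare after multiplying by each idempotent
    have key : ∀ k, C (e k) * ∏ i, (X - C (∑ l, e l * mkJ (a (i + l)))) =
        C (e k) * ∏ i, (X - C (mkJ (a i))) := by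
      intro k
      have hid : IsIdempotentElem (C (e k)) := (hhe.idem k).map C
      have h' : ∀ u : ZMod p → (R ⧸ (I₁ ⊔ I₂))[X], C (e k) * ∏ i, u i = ∏ i, C (e k) * u i := fun u => by
        have hpe : C (e k) ^ p = C (e k) := by
          have := hid.pow_succ_eq (p - 1)
          rwa [Nat.sub_add_cancel hp.out.one_le] at this
        rw [Finset.prod_mul_distrib, Finset.prod_const, Finset.card_univ, ZMod.card, hpe]
      rw [h', h']
      refine Fintype.prod_equiv (Equiv.addRight k) _ _ fun i => ?_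
      rw [mul_sub, mul_sub, ← C_mul, ← C_mul, Finset.mul_sum,
        Finset.sum_eq_single k (fun l _ hl => by rw [← mul_assoc, hhe.ortho hl.symm, zero_mul])
          (fun h => absurd (Finset.mem_univ k) h), ← mul_assoc, (hhe.idem k).eq]
      rfl
    have hC : ∑ k, C (e k) = (1 : (R ⧸ (I₁ ⊔ I₂))[X]) := by rw [← map_sum, hhe.complete, map_one]
    rw [← one_mul (∏ i, (X - C (∑ l, e l * mkJ (a (i + l))))), ← hC, Finset.sum_mul,
      Finset.sum_congr rfl fun k _ => key k, ← Finset.sum_mul, hC, one_mul]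
  have hG₁ : G₁.Monic := monic_prod_of_monic _ _ fun i _ => monic_X_sub_C _
  have hG₂ : G₂.Monic := monic_prod_of_monic _ _ fun i _ => monic_X_sub_C _
  have hdeg : ∀ v : ZMod p → R, (∏ i, (X - C (v i))).degree = (p : WithBot ℕ) := fun v => by
    rw [degree_eq_natDegree (monic_prod_of_monic _ _ fun i _ => monic_X_sub_C _).ne_zero,
      natDegree_prod_of_monic _ _ fun i _ => monic_X_sub_C _]
    simp
  have hlt : (G₂ - G₁).degree < G₁.degree := by
    refine (degree_sub_lt ?_ hG₂.ne_zero ?_).trans_eq ?_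
    · rw [hdeg, hdeg]
    · rw [hG₁.leadingCoeff, hG₂.leadingCoeff]
    · rw [hdeg, hdeg]
  obtain ⟨q₁, q₂, hq, hq₁d, hq₁, hq₂⟩ := exists_add_eq_of_map_eq (I₁ := I₁) (I₂ := I₂) (F := G₂ - G₁)
    (by rw [Polynomial.map_sub]; exact sub_eq_zero.2 hG) hG₁ hlt
  let f := G₁ + q₁
  have hfm : f.Monic := hG₁.add_of_left hq₁d
  have hfd : 0 < f.natDegree := by
    rw [natDegree_add_eq_left_of_degree_lt hq₁d, natDegree_eq_of_degree_eq_some (hdeg _)]
    exact hp.out.pos
  obtain ⟨r, hr⟩ := hR f hfm hfd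
  have hroot : ∀ (I : Ideal R) (G : R[X]), f.map (Ideal.Quotient.mk I) = G.map (Ideal.Quotient.mk I) →
      G.eval r ∈ I := fun I G h => by
    rw [← Ideal.Quotient.eq_zero_iff_mem, ← eval₂_at_apply, ← eval_map, ← h, eval_map, eval₂_at_apply, hr,
      map_zero]
  have h₁ := hroot I₁ G₁ (by simp [f, hq₁])
  have h₂ := hroot I₂ G₂ (by
    rw [show f = G₂ - q₂ by simp only [f]; linear_combination hq]
    simp [hq₂])
  simp only [G₁, eval_prod, eval_sub, eval_X, eval_C] at h₁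
  simp only [G₂, eval_prod, eval_sub, eval_X, eval_C] at h₂
  obtain ⟨s₁, hs₁, hs₁'⟩ := exists_select a hau r I₁ h₁
  obtain ⟨s₂, hs₂, hs₂'⟩ := exists_select c hcu r I₂ h₂
  refine ⟨s₁, s₂, hs₁, hs₂, fun x hx hx₁ hx₂ => ?_⟩
  obtain ⟨k, hk⟩ : ∃ k, k = g ⟨x, hx⟩ := ⟨_, rfl⟩
  have hcx : c (s₂ ⟨x, hx₂⟩) - a (s₂ ⟨x, hx₂⟩ + k) ∈ x.asIdeal := by
    have h3 : c (s₂ ⟨x, hx₂⟩) - ∑ l, ε l * a (s₂ ⟨x, hx₂⟩ + l) ∈ I₁ ⊔ I₂ := by
      rw [← Ideal.Quotient.eq_zero_iff_mem]
      show mkJ _ = 0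
      simp [mkJ, hε, hcJ]
    have h4 : ∑ l, ε l * a (s₂ ⟨x, hx₂⟩ + l) - a (s₂ ⟨x, hx₂⟩ + k) ∈ x.asIdeal := by
      rw [← Finset.add_sum_erase _ _ (Finset.mem_univ k), add_sub_right_comm]
      refine x.asIdeal.add_mem ?_ (x.asIdeal.sum_mem fun l hl => x.asIdeal.mul_mem_right _
        ((hev ⟨x, hx⟩ l (ε l) (hε l)).2 (hk ▸ Finset.ne_of_mem_erase hl)))
      rw [← sub_one_mul]
      refine x.asIdeal.mul_mem_right _ ?_
      rw [← neg_sub]
      exact x.asIdeal.neg_mem ((hev ⟨x, hx⟩ k (ε k) (hε k)).1 hk)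
    simpa using x.asIdeal.add_mem (hx h3) h4
  have h5 : a (s₁ ⟨x, hx₁⟩) - a (s₂ ⟨x, hx₂⟩ + k) ∈ x.asIdeal := by
    convert x.asIdeal.add_mem (x.asIdeal.sub_mem (hs₁' ⟨x, hx₁⟩) (hs₂' ⟨x, hx₂⟩) |> x.asIdeal.neg_mem) hcx using 1
    ring
  rw [← hk]
  by_contra hne
  exact x.isPrime.ne_top (Ideal.eq_top_of_isUnit_mem _ h5 (hau _ _ fun h => hne (by rw [h]; ring)))

/-- The same for every finite group of values. -/
theorem exists_split (hR : Curves.IsAIC R) (I₁ I₂ : Ideal R) : ∀ (n : ℕ) (M : Type) [AddCommGroup M] [Finite M],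
    Nat.card M = n → ∀ (g : PrimeSpectrum.zeroLocus ((I₁ ⊔ I₂ : Ideal R) : Set R) → M), IsLocallyConstant g →
    ∃ (h₁ : PrimeSpectrum.zeroLocus (I₁ : Set R) → M) (h₂ : PrimeSpectrum.zeroLocus (I₂ : Set R) → M),
      IsLocallyConstant h₁ ∧ IsLocallyConstant h₂ ∧
      ∀ (x : PrimeSpectrum R) (hx : x ∈ PrimeSpectrum.zeroLocus ((I₁ ⊔ I₂ : Ideal R) : Set R))
        (hx₁ : x ∈ PrimeSpectrum.zeroLocus (I₁ : Set R)) (hx₂ : x ∈ PrimeSpectrum.zeroLocus (I₂ : Set R)),
        g ⟨x, hx⟩ = h₁ ⟨x, hx₁⟩ - h₂ ⟨x, hx₂⟩ := by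
  intro n
  induction n using Nat.strong_induction_on with
  | _ n ih =>
    intro M _ _ hn g hg
    classical
    rcases subsingleton_or_nontrivial M with hM | hM
    · exact ⟨fun _ => 0, fun _ => 0, IsLocallyConstant.const _, IsLocallyConstant.const _,
        fun _ _ _ _ => Subsingleton.elim _ _⟩
    have h1 : Nat.card M ≠ 1 := (Finite.one_lt_card).ne'
    obtain ⟨p, hp, hpd⟩ := Nat.exists_prime_and_dvd h1
    haveI := Fact.mk hp
    obtain ⟨v, hv⟩ := exists_prime_addOrderOf_dvd_card' (G := M) p hpd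
    let K := AddSubgroup.zmultiples v
    have hKc : Nat.card K = p := (Nat.card_zmultiples v).trans hv
    have hlt : Nat.card (M ⧸ K) < n := by
      rw [← hn, K.card_eq_card_quotient_mul_card_addSubgroup, hKc]
      exact lt_mul_of_one_lt_right Nat.card_pos hp.one_lt
    obtain ⟨b₁, b₂, hb₁, hb₂, hb⟩ := ih _ hlt (M ⧸ K) rfl (fun x => (g x : M ⧸ K)) (hg.comp _)
    let o : M ⧸ K → M := Quotient.out
    have ho : ∀ z, ((o z : M) : M ⧸ K) = z := QuotientAddGroup.out_eq'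
    have hle₁ : ∀ x ∈ PrimeSpectrum.zeroLocus ((I₁ ⊔ I₂ : Ideal R) : Set R), x ∈ PrimeSpectrum.zeroLocus (I₁ : Set R) :=
      fun x hx r hr => hx (Ideal.mem_sup_left hr)
    have hle₂ : ∀ x ∈ PrimeSpectrum.zeroLocus ((I₁ ⊔ I₂ : Ideal R) : Set R), x ∈ PrimeSpectrum.zeroLocus (I₂ : Set R) :=
      fun x hx r hr => hx (Ideal.mem_sup_right hr)
    let rem : PrimeSpectrum.zeroLocus ((I₁ ⊔ I₂ : Ideal R) : Set R) → M := fun x =>
      g x - (o (b₁ ⟨x, hle₁ x x.2⟩) - o (b₂ ⟨x, hle₂ x x.2⟩))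
    have hrem : ∀ x, rem x ∈ K := fun x => by
      rw [← QuotientAddGroup.eq_zero_iff, QuotientAddGroup.mk_sub, QuotientAddGroup.mk_sub, ho, ho,
        sub_eq_zero]
      exact hb x x.2 _ _
    have hlc : IsLocallyConstant rem :=
      hg.sub (((hb₁.comp o).comp_continuous (continuous_subtype_val.subtype_mk _)).sub
        ((hb₂.comp o).comp_continuous (continuous_subtype_val.subtype_mk _)))
    let φ : K ≃+ ZMod p := ((zmodAddCyclicAddEquiv (G := K) inferInstance).symm : K ≃+ ZMod (Nat.card K)).trans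
      (ZMod.ringEquivCongr hKc).toAddEquiv
    obtain ⟨k₁, k₂, hk₁, hk₂, hk⟩ := exists_split_zmod hR p I₁ I₂ (fun x => φ ⟨rem x, hrem x⟩)
      (by
        refine IsLocallyConstant.iff_exists_open _ |>.2 fun x => ?_
        obtain ⟨U, hU, hxU, hc⟩ := (IsLocallyConstant.iff_exists_open _).1 hlc x
        exact ⟨U, hU, hxU, fun x' hx' => congrArg φ (Subtype.ext (hc x' hx'))⟩)
    refine ⟨fun x => o (b₁ x) + (φ.symm (k₁ x) : M), fun x => o (b₂ x) + (φ.symm (k₂ x) : M),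
      (hb₁.comp o).add (hk₁.comp fun z => (φ.symm z : M)), (hb₂.comp o).add (hk₂.comp fun z => (φ.symm z : M)), fun x hx hx₁ hx₂ => ?_⟩
    have h3 := congrArg (fun z => ((φ.symm z : K) : M)) (hk x hx hx₁ hx₂)
    simp only [AddEquiv.symm_apply_apply, map_sub, AddSubgroup.coe_sub, rem] at h3
    rw [← sub_eq_zero] at h3 ⊢
    refine Eq.trans ?_ h3
    simp only [sub_eq_add_neg, neg_add_rev, neg_neg]
    abel

end Groth.Agent.EtAICLib
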