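import Groth.Agent.EtAICLib.H0Union
import Groth.Agent.EtAICLib.Split
import Groth.Agent.EtAICLib.Basic
import Groth.Agent.EtH0Lib.Cover

/-!
# Constant sheaves on spectra of absolutely integrally closed rings have no higher cohomology
-/

set_option autoImplicit false
set_option linter.style.haveILetI false
set_option backward.isDefEq.respectTransparency false
set_option backward.isDefEq.respectTransparency.types false

universe u

open CategoryTheory CategoryTheory.Limits AlgebraicGeometry Opposite TopologicalSpace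

namespace Groth.Agent.EtAICLib

open EtFound EtTorLib

variable {X : Scheme.{u}}

theorem dies_of_union_split {F : EtCoh.Ab X} {T T₁ T₂ T₁₂ : Closeds X} (h₁ : T₁ ≤ T) (h₂ : T₂ ≤ T)
    (hu : (T : Set X) = (T₁ : Set X) ∪ T₂) (h₁' : T₁₂ ≤ T₁) (h₂' : T₁₂ ≤ T₂)
    (hi : (T₁₂ : Set X) = (T₁ : Set X) ∩ T₂) (n : ℕ)
    (hsplit : ∀ b : EtCoh.H X (quotSheaf F T₁₂) n, ∃ (b₁ : EtCoh.H X (quotSheaf F T₁) n) (b₂ : EtCoh.H X (quotSheaf F T₂) n),
      b = b₁.comp (Abelian.Ext.mk₀ (quotMap F h₁')) (add_zero n) - b₂.comp (Abelian.Ext.mk₀ (quotMap F h₂')) (add_zero n)) (c : EtCoh.H X (quotSheaf F T) (n + 1))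
    (c₁ : (EtCoh.HF X (n + 1)).map (quotMap F h₁) c = 0) (c₂ : (EtCoh.HF X (n + 1)).map (quotMap F h₂) c = 0) :
    c = 0 := by
  haveI he : ∀ {A B : Closeds X} (h : A ≤ B), Epi (quotMap F h) := fun {A B} h => by
    haveI : Epi (toQuot F B ≫ quotMap F h) := by rw [toQuot_quotMap]; infer_instance
    exact epi_of_epi (toQuot F B) _
  let S : ShortComplex (EtCoh.Ab X) := ShortComplex.mk (kernel.ι (quotMap F h₁)) _ (kernel.condition _)
  let S' : ShortComplex (EtCoh.Ab X) := ShortComplex.mk (kernel.ι (quotMap F h₂')) _ (kernel.condition _)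
  haveI : Epi S.g := he h₁
  haveI : Epi S'.g := he h₂'
  have hS : S.ShortExact := { exact := ShortComplex.exact_of_f_is_kernel _ (kernelIsKernel _) }
  have hS' : S'.ShortExact := { exact := ShortComplex.exact_of_f_is_kernel _ (kernelIsKernel _) }
  let τ : S.X₁ ⟶ S'.X₁ := kernel.map (quotMap F h₁) (quotMap F h₂') (quotMap F h₂) (quotMap F h₁')
    (by rw [quotMap_comp, quotMap_comp])
  have hτf : τ ≫ S'.f = S.f ≫ quotMap F h₂ := kernel.lift_ι _ _ _
  haveI : IsIso τ := by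
    refine (isIso_iff_stalks _).2 fun Ω _ _ ξ => ?_
    haveI : (EtCoh.stalk ξ).Additive := Functor.additive_of_preserves_binary_products _
    have hm : Mono ((EtCoh.stalk ξ).map S.f) := inferInstance
    have hm' : Mono ((EtCoh.stalk ξ).map S'.f) := inferInstance
    have z : ∀ (S : ShortComplex (EtCoh.Ab X)) [Mono ((EtCoh.stalk ξ).map S.f)], IsIso ((EtCoh.stalk ξ).map S.g) →
        IsZero ((EtCoh.stalk ξ).obj S.X₁) := fun S _ hg => by
      refine IsZero.of_mono_eq_zero ((EtCoh.stalk ξ).map S.f) ?_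
      rw [← cancel_mono ((EtCoh.stalk ξ).map S.g), zero_comp, ← Functor.map_comp, S.zero, Functor.map_zero]
    by_cases hξ : ξ.base (default : Spec (CommRingCat.of Ω)) ∈ T₁
    · refine (z S (isIso_stalk_quotMap F h₁ ξ hξ)).isIso (z S' (bijective_stalk_quotMap F h₂' ξ ?_)) _
      by_cases hξ2 : ξ.base (default : Spec (CommRingCat.of Ω)) ∈ T₂
      · exact Or.inl (show _ ∈ (T₁₂ : Set X) from hi ▸ ⟨hξ, hξ2⟩)
      · exact Or.inr hξ2
    · have h3 : IsIso ((EtCoh.stalk ξ).map (quotMap F h₂)) := bijective_stalk_quotMap F h₂ ξ (by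
        by_cases hξ2 : ξ.base (default : Spec (CommRingCat.of Ω)) ∈ T₂
        · exact Or.inl hξ2
        · exact Or.inr fun h => (show _ ∈ (T₁ : Set X) ∪ T₂ from hu ▸ h).elim hξ hξ2)
      have h4 : IsIso ((EtCoh.stalk ξ).map S.f) :=
        (hS.map_of_exact (EtCoh.stalk ξ)).isIso_f_iff.2 (isZero_stalk_quot ξ hξ)
      have h5 : IsIso ((EtCoh.stalk ξ).map S'.f) :=
        (hS'.map_of_exact (EtCoh.stalk ξ)).isIso_f_iff.2
          (isZero_stalk_quot ξ fun h => hξ (h₁' h))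
      have e : (EtCoh.stalk ξ).map τ ≫ (EtCoh.stalk ξ).map S'.f = (EtCoh.stalk ξ).map S.f ≫ (EtCoh.stalk ξ).map (quotMap F h₂) := by
        rw [← Functor.map_comp, hτf, Functor.map_comp]
      haveI := h3; haveI := h4; haveI := h5
      exact IsIso.of_isIso_fac_right e
  obtain ⟨a, ha⟩ := Abelian.Ext.covariant_sequence_exact₂ _ hS c c₁
  have hb : (a.comp (Abelian.Ext.mk₀ τ) (add_zero _)).comp (Abelian.Ext.mk₀ S'.f) (add_zero _) = 0 := by
    rw [Abelian.Ext.comp_assoc_of_third_deg_zero, Abelian.Ext.mk₀_comp_mk₀, hτf, ← Abelian.Ext.mk₀_comp_mk₀,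
      ← Abelian.Ext.comp_assoc_of_third_deg_zero, ha]
    exact c₂
  obtain ⟨b, hb'⟩ := Abelian.Ext.covariant_sequence_exact₁ _ hS' (a.comp (Abelian.Ext.mk₀ τ) (add_zero _)) hb (n₀ := n) rfl
  obtain ⟨b₁, b₂, rfl⟩ := hsplit b
  let φ : S ⟶ S' :=
    { τ₁ := τ, τ₂ := quotMap F h₂, τ₃ := quotMap F h₁'
      comm₁₂ := hτf
      comm₂₃ := (quotMap_comp F h₂' h₂).trans (quotMap_comp F h₁' h₁).symm }
  rw [sub_eq_add_neg, Abelian.Ext.add_comp, Abelian.Ext.neg_comp, Abelian.Ext.comp_assoc_of_second_deg_zero,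
    Abelian.Ext.comp_assoc_of_second_deg_zero,
    show (Abelian.Ext.mk₀ (quotMap F h₂')).comp hS'.extClass (zero_add 1) = 0 from hS'.comp_extClass,
    Abelian.Ext.comp_zero, neg_zero, add_zero,
    show (Abelian.Ext.mk₀ (quotMap F h₁')).comp hS'.extClass (zero_add 1) =
      hS.extClass.comp (Abelian.Ext.mk₀ τ) (add_zero 1) from
      (ShortComplex.ShortExact.extClass_naturality hS hS' φ).symm,
    ← Abelian.Ext.comp_assoc_of_third_deg_zero] at hb'
  have ha0 : a = b₁.comp hS.extClass rfl := by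
    have h6 := congrArg (fun t => Abelian.Ext.comp t (Abelian.Ext.mk₀ (inv τ)) (add_zero _)) hb'.symm
    simpa using h6
  rw [← ha, ha0, Abelian.Ext.comp_assoc_of_third_deg_zero]
  exact (congrArg (fun t => b₁.comp t rfl) hS.extClass_comp).trans (Abelian.Ext.comp_zero _ _ _ _ _)

variable {R : Type u} [CommRing R] (hR : Curves.IsAIC R) (M : Type) [AddCommGroup M]
include hR

theorem isStrictlyHenselian_stalk_aic (z : Spec (CommRingCat.of R)) :
    EtCoh.IsStrictlyHenselianLocalRing ((Spec (CommRingCat.of R)).presheaf.stalk z) :=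
  EtH0Lib.isStrictlyHenselian_congr (Spec.stalkIso (CommRingCat.of R) z).commRingCatIsoToRingEquiv.symm
    (Hensel.strictlyHenselian_localization_of_split (EtH0Lib.splits_of_isAIC hR) z.asIdeal)

theorem subsingleton_H_quot_irreducible_aic (T : Closeds (Spec (CommRingCat.of R)))
    (hT : IsIrreducible (T : Set (Spec (CommRingCat.of R)))) (q : ℕ) (hq : 0 < q) :
    Subsingleton (EtCoh.H _ (quotSheaf (EtCoh.const (Spec (CommRingCat.of R)) M) T) q) := by
  obtain ⟨e⟩ := nonempty_H_quot_const M T q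
  haveI : IrreducibleSpace (redSub T) := by
    have h := hT
    rw [← range_redSubι] at h
    haveI : Nonempty (redSub T) := let ⟨_, ⟨z, _⟩⟩ := h.nonempty; ⟨z⟩
    haveI : PreirreducibleSpace (redSub T) := ⟨fun u v hu hv ⟨a, _, ha⟩ ⟨b, _, hb⟩ => by
      obtain ⟨u', hu', rfl⟩ := (redSubι T).isClosedEmbedding.isInducing.isOpen_iff.1 hu
      obtain ⟨v', hv', rfl⟩ := (redSubι T).isClosedEmbedding.isInducing.isOpen_iff.1 hv
      obtain ⟨_, ⟨z, rfl⟩, hz⟩ := h.isPreirreducible u' v' hu' hv' ⟨_, ⟨a, rfl⟩, ha⟩ ⟨_, ⟨b, rfl⟩, hb⟩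
      exact ⟨z, trivial, hz⟩⟩
    exact ⟨inferInstance⟩
  haveI := EtLC12.EtZarCompare.zarCont (redSub T)
  have hsh : ∀ z : redSub T, EtCoh.IsStrictlyHenselianLocalRing ((redSub T).presheaf.stalk z) := fun z =>
    isStrictlyHenselian_of_surjective ((redSubι T).stalkMap z).hom ((redSubι T).stalkMap_surjective z)
      (isStrictlyHenselian_stalk_aic hR _)
  haveI := subsingleton_H_const M hsh q hq
  exact e.toEquiv.subsingleton

variable [Finite M]

theorem subsingleton_H_quot_aic : ∀ (q : ℕ), 1 ≤ q → ∀ T : Closeds (Spec (CommRingCat.of R)),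
    Subsingleton (EtCoh.H _ (quotSheaf (EtCoh.const (Spec (CommRingCat.of R)) M) T) q) := by
  let X := Spec (CommRingCat.of R)
  have step : ∀ n : ℕ, (∀ {T₁ T₂ T₁₂ : Closeds X} (h₁ : T₁₂ ≤ T₁) (h₂ : T₁₂ ≤ T₂),
      (T₁₂ : Set X) = (T₁ : Set X) ∩ T₂ → ∀ b : EtCoh.H X (quotSheaf (EtCoh.const X M) T₁₂) n,
      ∃ (b₁ : EtCoh.H X (quotSheaf (EtCoh.const X M) T₁) n) (b₂ : EtCoh.H X (quotSheaf (EtCoh.const X M) T₂) n),
        b = b₁.comp (Abelian.Ext.mk₀ (quotMap _ h₁)) (add_zero n) - b₂.comp (Abelian.Ext.mk₀ (quotMap _ h₂)) (add_zero n)) →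
      ∀ T₀ : Closeds X, Subsingleton (EtCoh.H X (quotSheaf (EtCoh.const X M) T₀) (n + 1)) := by
    intro n hs T₀
    refine subsingleton_of_forall_eq 0 fun c => ?_
    let F := EtCoh.const X M
    by_contra hne
    let Bad : Set (Closeds X) := {T | ∃ h : T ≤ T₀, (EtCoh.HF X (n + 1)).map (quotMap F h) c ≠ 0}
    have hbad₀ : T₀ ∈ Bad := ⟨le_rfl, by
      rw [quotMap_self, CategoryTheory.Functor.map_id]
      exact hne⟩
    obtain ⟨T, -, hT⟩ := @zorn_le_nonempty₀ (Closeds X)ᵒᵈ _ {T | OrderDual.ofDual T ∈ Bad} (fun C hC hchain y hy => by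
      let J := {T : (Closeds X)ᵒᵈ // T ∈ C}
      haveI : Nonempty J := ⟨⟨y, hy⟩⟩
      haveI : IsDirectedOrder J := ⟨fun a b => (hchain.total a.2 b.2).elim (fun h => ⟨b, h, le_rfl⟩) (fun h => ⟨a, le_rfl, h⟩)⟩
      let T : J → Closeds X := fun a => OrderDual.ofDual a.1
      let Tinf : Closeds X := ⟨⋂ a, (T a : Set X), isClosed_iInter fun a => (T a).isClosed⟩
      refine ⟨OrderDual.toDual Tinf, ?_, fun z hz => show Tinf ≤ T ⟨z, hz⟩ from fun x hx => Set.mem_iInter.1 hx ⟨z, hz⟩⟩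
      obtain ⟨hy₀, hyc⟩ := hC hy
      have hle : Tinf ≤ T ⟨y, hy⟩ := fun x hx => Set.mem_iInter.1 hx _
      refine ⟨hle.trans hy₀, fun h0 => ?_⟩
      obtain ⟨k, hjk, hk⟩ := exists_dies_at_stage F T (fun a b h => h) Tinf rfl (n + 1) ⟨y, hy⟩
        ((EtCoh.HF X (n + 1)).map (quotMap F hy₀) c) (fun h => by
          rw [← ConcreteCategory.comp_apply, ← Functor.map_comp, quotMap_comp]
          exact h0)
      obtain ⟨_, hkc⟩ := hC k.2
      refine hkc ?_
      rw [← ConcreteCategory.comp_apply, ← Functor.map_comp, quotMap_comp] at hk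
      exact hk) (OrderDual.toDual T₀) hbad₀
    let T' : Closeds X := OrderDual.ofDual T
    obtain ⟨hT₀, hTc⟩ : T' ∈ Bad := hT.prop
    have hmin : ∀ A : Closeds X, A ≤ T' → ∀ h : A ≤ T₀, (EtCoh.HF X (n + 1)).map (quotMap F h) c ≠ 0 → T' ≤ A :=
      fun A hA h hAc => hT.le_of_ge (y := OrderDual.toDual A) ⟨h, hAc⟩ hA
    by_cases hirr : IsIrreducible (T' : Set X)
    · exact hTc (@Subsingleton.elim _ (subsingleton_H_quot_irreducible_aic hR M T' hirr (n + 1) n.succ_pos) _ _)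
    · rcases Set.eq_empty_or_nonempty (T' : Set X) with h | h
      · refine hTc ?_
        have hz : IsZero (quotSheaf F T') := by
          rw [IsZero.iff_id_eq_zero]
          exact eq_of_stalks _ _ fun Ω _ _ ξ => (isZero_stalk_quot ξ (Set.eq_empty_iff_forall_notMem.1 h _)).eq_of_src _ _
        haveI : Subsingleton (EtCoh.H X (quotSheaf F T') (n + 1)) := subsingleton_of_forall_eq 0 fun x => by
          rw [← Abelian.Ext.comp_mk₀_id x, hz.eq_of_src (𝟙 _) 0, Abelian.Ext.mk₀_zero, Abelian.Ext.comp_zero]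
        exact Subsingleton.elim (α := EtCoh.H X (quotSheaf F T') (n + 1)) _ _
      · have hni : ¬ IsPreirreducible (T' : Set X) := fun hp => hirr ⟨h, hp⟩
        rw [isPreirreducible_iff_isClosed_union_isClosed] at hni
        push_neg at hni
        obtain ⟨Z₁, Z₂, hZ₁, hZ₂, hsub, hn₁, hn₂⟩ := hni
        let A₁ : Closeds X := ⟨(T' : Set X) ∩ Z₁, T'.isClosed.inter hZ₁⟩
        let A₂ : Closeds X := ⟨(T' : Set X) ∩ Z₂, T'.isClosed.inter hZ₂⟩
        let A : Closeds X := ⟨(A₁ : Set X) ∩ A₂, A₁.isClosed.inter A₂.isClosed⟩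
        have h₁ : A₁ ≤ T' := fun x hx => hx.1
        have h₂ : A₂ ≤ T' := fun x hx => hx.1
        refine hTc (dies_of_union_split h₁ h₂ ?_ (fun x hx => hx.1) (fun x hx => hx.2) (T₁₂ := A) rfl n (hs _ _ rfl) _ ?_ ?_)
        · ext x
          exact ⟨fun hx => (hsub hx).elim (fun h => Or.inl ⟨hx, h⟩) (fun h => Or.inr ⟨hx, h⟩),
            fun hx => hx.elim (fun h => h.1) (fun h => h.1)⟩
        · rw [← ConcreteCategory.comp_apply, ← Functor.map_comp, quotMap_comp]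
          by_contra hA
          exact hn₁ fun x hx => (hmin A₁ h₁ _ hA hx).2
        · rw [← ConcreteCategory.comp_apply, ← Functor.map_comp, quotMap_comp]
          by_contra hA
          exact hn₂ fun x hx => (hmin A₂ h₂ _ hA hx).2
  have split0 : ∀ {T₁ T₂ T₁₂ : Closeds X} (h₁ : T₁₂ ≤ T₁) (h₂ : T₁₂ ≤ T₂),
      (T₁₂ : Set X) = (T₁ : Set X) ∩ T₂ → ∀ b : EtCoh.H X (quotSheaf (EtCoh.const X M) T₁₂) 0,
      ∃ (b₁ : EtCoh.H X (quotSheaf (EtCoh.const X M) T₁) 0) (b₂ : EtCoh.H X (quotSheaf (EtCoh.const X M) T₂) 0),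
        b = b₁.comp (Abelian.Ext.mk₀ (quotMap _ h₁)) (add_zero 0) - b₂.comp (Abelian.Ext.mk₀ (quotMap _ h₂)) (add_zero 0) := by
    intro T₁ T₂ T₁₂ h₁ h₂ hi b
    obtain ⟨b₁, b₂, e⟩ := exists_split_hom (M := M) h₁ h₂ (fun g hg => by
      obtain ⟨J₁, hJ₁⟩ : ∃ I : Ideal R, (T₁ : Set X) = PrimeSpectrum.zeroLocus (I : Set R) :=
        (PrimeSpectrum.isClosed_iff_zeroLocus_ideal _).1 T₁.isClosed
      obtain ⟨J₂, hJ₂⟩ : ∃ I : Ideal R, (T₂ : Set X) = PrimeSpectrum.zeroLocus (I : Set R) :=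
        (PrimeSpectrum.isClosed_iff_zeroLocus_ideal _).1 T₂.isClosed
      have h12 : (T₁₂ : Set X) = PrimeSpectrum.zeroLocus ((J₁ ⊔ J₂ : Ideal R) : Set R) := by
        rw [hi, hJ₁, hJ₂]
        exact (PrimeSpectrum.zeroLocus_sup _ _).symm
      obtain ⟨f₁, f₂, hf₁, hf₂, hf⟩ := exists_split hR J₁ J₂ _ M rfl (fun x => g ⟨x.1, h12.symm.le x.2⟩)
        (hg.comp_continuous (continuous_subtype_val.subtype_mk _))
      exact ⟨fun x => f₁ ⟨x.1, hJ₁.le x.2⟩, fun x => f₂ ⟨x.1, hJ₂.le x.2⟩,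
        hf₁.comp_continuous (continuous_subtype_val.subtype_mk _),
        hf₂.comp_continuous (continuous_subtype_val.subtype_mk _),
        fun x => hf x.1 (h12.le x.2) (hJ₁.le (h₁ x.2)) (hJ₂.le (h₂ x.2))⟩) (Abelian.Ext.addEquiv₀ b)
    refine ⟨Abelian.Ext.mk₀ b₁, Abelian.Ext.mk₀ b₂, ?_⟩
    rw [Abelian.Ext.mk₀_comp_mk₀, Abelian.Ext.mk₀_comp_mk₀, ← Abelian.Ext.addEquiv₀_symm_apply,
      ← Abelian.Ext.addEquiv₀_symm_apply, ← map_sub, ← e, AddEquiv.symm_apply_apply]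
  intro q hq
  induction q, hq using Nat.le_induction with
  | base => exact step 0 split0
  | succ n hn ih =>
    exact step n fun {T₁ T₂ T₁₂} h₁ h₂ _ b => ⟨0, 0, by
      rw [@Subsingleton.elim _ (ih T₁₂) b 0, Abelian.Ext.zero_comp, Abelian.Ext.zero_comp, sub_zero]⟩

end Groth.Agent.EtAICLib
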