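import Groth.Prelude.Def_Curves
import Mathlib.RingTheory.Polynomial.Cyclotomic.Basic
import Mathlib.RingTheory.Spectrum.Prime.Topology
import Mathlib.Algebra.Polynomial.Div
import Mathlib.Topology.LocallyConstant.Basic
import Mathlib.Data.ZMod.Basic
import Mathlib.Algebra.Field.ZMod

/-!
# Cyclotomic configurations and unit lifts over absolutely integrally closed rings
-/

set_option autoImplicit false
set_option linter.style.haveILetI false
universe u

open Polynomial

namespace Groth.Agent.EtAICLib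

variable {R : Type u} [CommRing R]

/-- `w + (w ^ n - 1) y` is a unit for a suitable `y`. -/
theorem exists_unit_lift (hR : Curves.IsAIC R) (w : R) {n : ℕ} (hn : 0 < n) :
    ∃ y : R, IsUnit (w + (w ^ n - 1) * y) := by
  rcases subsingleton_or_nontrivial R with h | h
  · exact ⟨0, isUnit_of_subsingleton _⟩
  let f : R[X] := X * ∑ k ∈ Finset.range n, C w ^ k * X ^ (n - 1 - k)
  have hs : f = X ^ n + X * ∑ k ∈ Finset.range (n - 1), C w ^ (k + 1) * X ^ (n - 1 - (k + 1)) := by
    obtain ⟨m, rfl⟩ : ∃ m, n = m + 1 := ⟨n - 1, by omega⟩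
    simp only [f, Nat.add_sub_cancel]
    rw [Finset.sum_range_succ', mul_add, add_comm]
    simp [pow_succ, mul_comm]
  have hlow : (X * ∑ k ∈ Finset.range (n - 1), C w ^ (k + 1) * X ^ (n - 1 - (k + 1)) + 1 : R[X]).degree < (n : WithBot ℕ) := by
    refine lt_of_le_of_lt (b := ((n - 1 : ℕ) : WithBot ℕ)) ?_ (by exact_mod_cast Nat.sub_lt hn one_pos)
    refine (degree_add_le _ _).trans (max_le ?_ (degree_one_le.trans (by exact_mod_cast Nat.zero_le _)))
    rw [Finset.mul_sum]
    refine (degree_sum_le _ _).trans (Finset.sup_le fun k hk => ?_)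
    rw [← C_pow, ← mul_assoc, X_mul_C, mul_assoc, ← pow_succ']
    refine (degree_C_mul_X_pow_le _ _).trans ?_
    rw [Finset.mem_range] at hk
    exact_mod_cast (by omega : n - 1 - (k + 1) + 1 ≤ n - 1)
  have hm : (f + 1).Monic := by rw [hs, add_assoc]; exact monic_X_pow_add hlow
  have hd : 0 < (f + 1).natDegree := by
    rw [hs, add_assoc, natDegree_add_eq_left_of_degree_lt (by rwa [degree_X_pow]), natDegree_X_pow]
    exact hn
  obtain ⟨y, hy⟩ := hR (f + 1) hm hd
  simp only [f, eval_add, eval_mul, eval_X, eval_one, eval_finsetSum, eval_pow, eval_C] at hy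
  let G := ∑ k ∈ Finset.range n, w ^ k * y ^ (n - 1 - k)
  have hG : G * (w - y) = w ^ n - y ^ n := geom_sum₂_mul w y n
  have hyG : y * G = -1 := eq_neg_of_add_eq_zero_left hy
  refine ⟨y, ?_⟩
  have e : w + (w ^ n - 1) * y = y ^ (n + 1) := by linear_combination -y * hG + (w - y) * hyG
  rw [e]
  exact (isUnit_iff_exists_inv.2 ⟨-G, by linear_combination -hyG⟩).pow _

variable (p : ℕ) (ζ : R)

/-- partial geometric sums, indexed modulo `p` -/
def geo (i : ZMod p) : R := ∑ j ∈ Finset.range i.val, ζ ^ j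

variable {p ζ}

theorem geomSum_mod (hs : ∑ j ∈ Finset.range p, ζ ^ j = 0) (hz : ζ ^ p = 1) (n : ℕ) :
    ∑ j ∈ Finset.range n, ζ ^ j = geo p ζ (n : ZMod p) := by
  have h : ∀ r q : ℕ, ∑ j ∈ Finset.range (p * q + r), ζ ^ j = ∑ j ∈ Finset.range r, ζ ^ j := fun r q => by
    induction q with
    | zero => simp
    | succ q ih =>
      rw [show p * (q + 1) + r = p + (p * q + r) by ring, Finset.sum_range_add, hs, zero_add, ← ih]
      exact Finset.sum_congr rfl fun j _ => by rw [pow_add, hz, one_mul]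
  rw [geo, ZMod.val_natCast]
  conv_lhs => rw [← Nat.div_add_mod n p]
  exact h _ _

variable [hp : Fact p.Prime] (hs : ∑ j ∈ Finset.range p, ζ ^ j = 0) (hz : ζ ^ p = 1)
include hs hz

theorem geo_add (j d : ZMod p) : geo p ζ (j + d) = geo p ζ j + ζ ^ j.val * geo p ζ d := by
  rw [show j + d = ((j.val + d.val : ℕ) : ZMod p) by simp, ← geomSum_mod hs hz,
    Finset.sum_range_add, geo, geo, Finset.mul_sum]
  simp [pow_add]

theorem isUnit_geo {d : ZMod p} (hd : d ≠ 0) : IsUnit (geo p ζ d) := by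
  have h : ∀ n : ℕ, ∑ j ∈ Finset.range (d.val * n), ζ ^ j =
      geo p ζ d * ∑ t ∈ Finset.range n, ζ ^ (d.val * t) := fun n => by
    induction n with
    | zero => simp
    | succ n ih =>
      rw [Nat.mul_succ, Finset.sum_range_add, ih, Finset.sum_range_succ, mul_add, geo]
      congr 1
      rw [mul_comm _ (ζ ^ _), Finset.mul_sum]
      simp [pow_add]
  refine isUnit_iff_exists_inv.2 ⟨_, (h (d⁻¹).val).symm.trans ?_⟩
  rw [geomSum_mod hs hz, Nat.cast_mul, ZMod.natCast_val, ZMod.natCast_val, ZMod.cast_id, ZMod.cast_id,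
    mul_inv_cancel₀ hd, geo]
  haveI : Fact (1 < p) := ⟨hp.out.one_lt⟩
  simp [ZMod.val_one]

theorem isUnit_geo_sub {i j : ZMod p} (h : i ≠ j) : IsUnit (geo p ζ i - geo p ζ j) := by
  have e := geo_add hs hz j (i - j)
  rw [add_sub_cancel] at e
  rw [e, add_sub_cancel_left]
  refine IsUnit.mul (IsUnit.pow _ ?_) (isUnit_geo hs hz (sub_ne_zero.2 h))
  exact isUnit_iff_exists_inv.2 ⟨ζ ^ (p - 1), by rw [← pow_succ', Nat.sub_add_cancel hp.out.one_le, hz]⟩

end Groth.Agent.EtAICLib
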